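import Mathlib
import Cfsg.Agent.OddOrderLocal.FitCores
import Cfsg.Agent.OddOrderLocal.CyclicSub
import Cfsg.Agent.S0205

/-!
# S2527, rows `²G₂(q)` and `J₁` (helper196): the abstract setup

`RS S` : the local facts on a Sylow 2-subgroup `S` of order 8 which are used.
`RS.cn_card`: a nontrivial subgroup of odd order normalised by `S` is centralised by exactly a four-subgroup of `S`.
-/

set_option autoImplicit false

namespace Cfsg.Agent.H196.Ron

open Subgroup

universe u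

variable {G : Type u} [Group G]

/-- Sylow 2-subgroup of order 8 of a group of type Janko-Ree: the facts used. -/
structure RS (S : Subgroup G) : Prop where
  card_S : Nat.card S = 8
  sq : ∀ s ∈ S, s * s = 1
  odd : Odd S.index
  card_N : Nat.card (normalizer (S : Set G)) = 168
  cent : ∀ g, (∀ s ∈ S, g * s = s * g) → g ∈ S
  loc : ∀ V : Subgroup G, V ≤ S → Nat.card V = 4 → ∃ Y : Subgroup G, IsCyclic Y ∧ Odd (Nat.card Y) ∧
     (∀ y ∈ Y, ∀ v ∈ V, v * y = y * v) ∧
     (∀ s ∈ S, s ∉ V → ∀ y ∈ Y, s * y * s⁻¹ = y⁻¹) ∧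
     (∀ g, (∀ v ∈ V, v * g = g * v) → Odd (orderOf g) → g ∈ Y) ∧
     (∀ y ∈ Y, y ≠ 1 → ∀ g, g * y = y * g → ∃ v ∈ V, ∃ z ∈ Y, g = v * z)

theorem sq_inv {x : G} (h : x * x = 1) : x⁻¹ = x := inv_eq_of_mul_eq_one_left h

theorem RS.inv {S : Subgroup G} (h : RS S) {s : G} (hs : s ∈ S) : s⁻¹ = s := sq_inv (h.sq s hs)

theorem RS.comm {S : Subgroup G} (h : RS S) {s t : G} (hs : s ∈ S) (ht : t ∈ S) : s * t = t * s := by
  have h1 := h.inv (S.mul_mem hs ht)
  rw [mul_inv_rev, h.inv hs, h.inv ht] at h1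
  exact h1.symm

/-- an element of odd order with square 1 -/
theorem eq_one_of_odd {x : G} (h : Odd (orderOf x)) (h2 : x * x = 1) : x = 1 := by
  have h3 : orderOf x ∣ 2 := orderOf_dvd_of_pow_eq_one (by rw [pow_two, h2])
  rcases (Nat.dvd_prime Nat.prime_two).1 h3 with h4 | h4
  · exact orderOf_eq_one_iff.1 h4
  · rw [h4] at h; exact absurd h (by decide)

theorem odd_of_mem [Finite G] {D : Subgroup G} (h : Odd (Nat.card D)) {x : G} (hx : x ∈ D) : Odd (orderOf x) :=
  h.of_dvd_nat (D.orderOf_dvd_natCard hx)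

/-- an involutory automorphism without fixed points inverts -/
theorem inverts [Finite G] {M : Subgroup G} {t : G} (hn : ∀ x ∈ M, t * x * t⁻¹ ∈ M) (ht : t * t = 1)
    (hf : ∀ x ∈ M, t * x = x * t → x = 1) : ∀ x ∈ M, t * x * t⁻¹ = x⁻¹ := by
  let f : M → M := fun x => ⟨(x : G)⁻¹ * (t * x * t⁻¹), M.mul_mem (M.inv_mem x.2) (hn x x.2)⟩
  have hi : Function.Injective f := by
    intro x y h
    have h1 : (x : G)⁻¹ * (t * x * t⁻¹) = (y : G)⁻¹ * (t * y * t⁻¹) := congrArg Subtype.val h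
    have h2 : t * ((y : G) * (x : G)⁻¹) = ((y : G) * (x : G)⁻¹) * t := by
      have h3 : (y : G) * (x : G)⁻¹ * (t * x * t⁻¹) = t * y * t⁻¹ := by
        rw [mul_assoc, h1]; group
      calc t * ((y : G) * (x : G)⁻¹) = (t * y * t⁻¹) * (t * (x : G)⁻¹) := by group
        _ = ((y : G) * (x : G)⁻¹ * (t * x * t⁻¹)) * (t * (x : G)⁻¹) := by rw [h3]
        _ = ((y : G) * (x : G)⁻¹) * t := by group
    have h3 := hf _ (M.mul_mem y.2 (M.inv_mem x.2)) h2
    apply Subtype.ext
    exact (mul_inv_eq_one.1 h3).symm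
  have hs : Function.Surjective f := Finite.surjective_of_injective hi
  intro m hm
  obtain ⟨x, hx⟩ := hs ⟨m, hm⟩
  have h1 : (x : G)⁻¹ * (t * x * t⁻¹) = m := congrArg Subtype.val hx
  have hti := sq_inv ht
  rw [← h1, hti]
  calc t * ((x : G)⁻¹ * (t * x * t)) * t = t * (x : G)⁻¹ * t * x * (t * t) := by group
    _ = t * (x : G)⁻¹ * t * x := by rw [ht, mul_one]
    _ = ((x : G)⁻¹ * (t * x * t))⁻¹ := by rw [mul_inv_rev, mul_inv_rev, mul_inv_rev, hti, inv_inv]; group

/-- a four-group acting on a nontrivial group of odd order has an element with nontrivial fixed points -/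
theorem exists_fix [Finite G] {M : Subgroup G} (hM : M ≠ ⊥) {t u : G}
    (ht : ∀ x ∈ M, t * x * t⁻¹ ∈ M) (hu : ∀ x ∈ M, u * x * u⁻¹ ∈ M) (tt : t * t = 1) (uu : u * u = 1) :
    ∃ s : G, (s = t ∨ s = u ∨ s = t * u) ∧ ∃ x ∈ M, x ≠ 1 ∧ s * x = x * s := by
  by_contra hcon
  push Not at hcon
  have h1 := inverts ht tt (fun x hx h => by
    by_contra hne
    exact hcon t (Or.inl rfl) x hx hne h)
  have h2 := inverts hu uu (fun x hx h => by
    by_contra hne
    exact hcon u (Or.inr (Or.inl rfl)) x hx hne h)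
  obtain ⟨⟨x, hx⟩, hx0⟩ := Subgroup.ne_bot_iff_exists_ne_one.1 hM
  have hx1 : x ≠ 1 := fun h => hx0 (Subtype.ext h)
  refine hcon (t * u) (Or.inr (Or.inr rfl)) x hx hx1 ?_
  have h3 : t * u * x * (t * u)⁻¹ = x := by
    calc t * u * x * (t * u)⁻¹ = t * (u * x * u⁻¹) * t⁻¹ := by group
      _ = x := by rw [h2 x hx, h1 _ (M.inv_mem hx), inv_inv]
  exact (mul_inv_eq_iff_eq_mul.1 h3)

section

variable [Finite G] {S : Subgroup G}

/-- the elements of `S` which centralise `D` -/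
def cn (S D : Subgroup G) : Subgroup G := S ⊓ centralizer (D : Set G)

omit [Finite G] in
theorem mem_cn {D : Subgroup G} {s : G} : s ∈ cn S D ↔ s ∈ S ∧ ∀ d ∈ D, s * d = d * s := by
  rw [cn, mem_inf, mem_centralizer_iff]
  exact ⟨fun h => ⟨h.1, fun d hd => (h.2 d hd).symm⟩, fun h => ⟨h.1, fun d hd => (h.2 d hd).symm⟩⟩

omit [Finite G] in
theorem cn_anti {D D' : Subgroup G} (h : D ≤ D') : cn S D' ≤ cn S D := fun _ hx =>
  mem_cn.2 ⟨(mem_cn.1 hx).1, fun d hd => (mem_cn.1 hx).2 d (h hd)⟩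

/-- A subgroup of `S` which contains two independent elements and is not everything has order 4. -/
theorem card_four (h : RS S) {V : Subgroup G} (hV : V ≤ S) (hne : V ≠ S) {s t : G} (hs : s ∈ V) (ht : t ∈ V)
    (hs1 : s ≠ 1) (ht1 : t ≠ 1) (hst : s ≠ t) : Nat.card V = 4 := by
  have h1 : Nat.card V ∣ 8 := h.card_S ▸ card_dvd_of_le hV
  have h2 : Nat.card V ≠ 8 := by
    intro h8
    exact hne (eq_of_le_of_card_ge hV (by rw [h.card_S, h8]))
  have h3 : 3 ≤ Nat.card V := by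
    classical
    have h4 : ({1, s, t} : Finset G).card = 3 := by
      rw [Finset.card_insert_of_notMem, Finset.card_pair hst]
      simp only [Finset.mem_insert, Finset.mem_singleton, not_or]
      exact ⟨hs1.symm, ht1.symm⟩
    rw [← h4, ← Set.ncard_coe_finset]
    have h5 : ((({1, s, t} : Finset G) : Set G)) ⊆ (V : Set G) := by
      intro x hx
      simp only [Finset.coe_insert, Finset.coe_singleton, Set.mem_insert_iff, Set.mem_singleton_iff] at hx
      rcases hx with rfl | rfl | rfl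
      · exact V.one_mem
      · exact hs
      · exact ht
    exact Set.ncard_le_ncard h5 (Set.toFinite _)
  have h4 : Nat.card V ∈ Nat.divisors 8 := Nat.mem_divisors.2 ⟨h1, by norm_num⟩
  have h5 : Nat.divisors 8 = {1, 2, 4, 8} := by decide
  rw [h5] at h4
  simp only [Finset.mem_insert, Finset.mem_singleton] at h4
  omega

theorem exists_notMem {A : Subgroup G} (h : Nat.card A < Nat.card S) : ∃ s ∈ S, s ∉ A := by
  by_contra hcon
  push Not at hcon
  have := Nat.card_mono (Set.toFinite (A : Set G)) (show (S : Set G) ⊆ A from hcon)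
  exact absurd this (by simpa using h)

/-- `S` acting on a nontrivial group of odd order: a four-subgroup has fixed points -/
theorem RS.exists_fixed (h : RS S) {M : Subgroup G} (hM : M ≠ ⊥) (ho : Odd (Nat.card M))
    (hn : ∀ s ∈ S, ∀ x ∈ M, s * x * s⁻¹ ∈ M) :
    ∃ x ∈ M, x ≠ 1 ∧ Nat.card (cn S (zpowers x)) = 4 := by
  -- first involution
  obtain ⟨t, ht, ht1⟩ := exists_notMem (S := S) (A := ⊥) (by rw [h.card_S, card_bot]; norm_num)
  rw [mem_bot] at ht1
  obtain ⟨u, hu, hut⟩ := exists_notMem (S := S) (A := zpowers t) (by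
    rw [h.card_S, Nat.card_zpowers]
    have : orderOf t ∣ 2 := orderOf_dvd_of_pow_eq_one (by rw [pow_two, h.sq t ht])
    exact (Nat.le_of_dvd (by norm_num) this).trans_lt (by norm_num))
  have hu1 : u ≠ 1 := fun h1 => hut (h1 ▸ one_mem _)
  have htu : t ≠ u := fun h1 => hut (h1 ▸ mem_zpowers _)
  obtain ⟨s, hs, x, hx, hx1, hsx⟩ := exists_fix hM (hn t ht) (hn u hu) (h.sq t ht) (h.sq u hu)
  have hsS : s ∈ S := by
    rcases hs with rfl | rfl | rfl
    · exact ht
    · exact hu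
    · exact S.mul_mem ht hu
  have hs1 : s ≠ 1 := by
    rcases hs with rfl | rfl | rfl
    · exact ht1
    · exact hu1
    · intro h1
      apply htu
      rw [← h.inv hu]
      exact mul_eq_one_iff_eq_inv.1 h1
  -- second involution, outside `⟨s⟩`
  let M1 : Subgroup G := M ⊓ centralizer {s}
  have hM1 : M1 ≠ ⊥ := by
    intro h1
    apply hx1
    rw [← mem_bot, ← h1]
    exact ⟨hx, mem_centralizer_singleton_iff.2 hsx.symm⟩
  have hn1 : ∀ r ∈ S, ∀ y ∈ M1, r * y * r⁻¹ ∈ M1 := by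
    intro r hr y hy
    refine ⟨hn r hr y hy.1, mem_centralizer_singleton_iff.2 ?_⟩
    have h1 := mem_centralizer_singleton_iff.1 hy.2
    have h2 := h.comm hr hsS
    symm
    calc s * (r * y * r⁻¹) = (s * r) * y * r⁻¹ := by group
      _ = r * (s * y) * r⁻¹ := by rw [← h2]; group
      _ = r * y * (s * r⁻¹) := by rw [← h1]; group
      _ = r * y * (r⁻¹ * s) := by rw [h.inv hr, h2]
      _ = r * y * r⁻¹ * s := by group
  obtain ⟨t', ht', ht's⟩ := exists_notMem (S := S) (A := zpowers s) (by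
    rw [h.card_S, Nat.card_zpowers]
    have : orderOf s ∣ 2 := orderOf_dvd_of_pow_eq_one (by rw [pow_two, h.sq s hsS])
    exact (Nat.le_of_dvd (by norm_num) this).trans_lt (by norm_num))
  have hst' : s ≠ t' := fun h1 => ht's (h1 ▸ mem_zpowers _)
  have ht'1 : t' ≠ 1 := fun h1 => ht's (h1 ▸ one_mem _)
  obtain ⟨u', hu', hu's⟩ : ∃ u' ∈ S, u' ≠ 1 ∧ u' ≠ s ∧ u' ≠ t' ∧ u' ≠ s * t' := by
    classical
    by_contra hcon
    push Not at hcon
    have h5 : (S : Set G) ⊆ (({1, s, t', s * t'} : Finset G) : Set G) := by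
      intro y hy
      simp only [Finset.coe_insert, Finset.coe_singleton, Set.mem_insert_iff, Set.mem_singleton_iff]
      by_cases h1 : y = 1
      · exact Or.inl h1
      by_cases h2 : y = s
      · exact Or.inr (Or.inl h2)
      by_cases h3 : y = t'
      · exact Or.inr (Or.inr (Or.inl h3))
      exact Or.inr (Or.inr (Or.inr (hcon y hy h1 h2 h3)))
    have h6 := Set.ncard_le_ncard h5 (Set.toFinite _)
    rw [Set.ncard_coe_finset] at h6
    have h7 : (S : Set G).ncard = 8 := h.card_S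
    have h8 := Finset.card_le_four (a := (1 : G)) (b := s) (c := t') (d := s * t')
    omega
  obtain ⟨s', hs', y, hy, hy1, hs'y⟩ := exists_fix hM1 (hn1 t' ht') (hn1 u' hu') (h.sq t' ht') (h.sq u' hu')
  have hs'S : s' ∈ S := by
    rcases hs' with rfl | rfl | rfl
    · exact ht'
    · exact hu'
    · exact S.mul_mem ht' hu'
  have hs'1 : s' ≠ 1 := by
    rcases hs' with rfl | rfl | rfl
    · exact ht'1
    · exact hu's.1
    · intro h1
      apply hu's.2.2.1
      rw [← h.inv ht']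
      exact mul_eq_one_iff_eq_inv'.1 h1
  have hss' : s ≠ s' := by
    rcases hs' with rfl | rfl | rfl
    · exact hst'
    · exact hu's.2.1.symm
    · intro h1
      apply hu's.2.2.2
      rw [h1, h.comm ht' hu', mul_assoc, h.sq t' ht', mul_one]
  refine ⟨y, hy.1, hy1, ?_⟩
  have hc : ∀ r : G, r ∈ S → r * y = y * r → r ∈ cn S (zpowers y) := by
    intro r hr hry
    refine mem_cn.2 ⟨hr, ?_⟩
    rintro _ ⟨k, rfl⟩
    exact (Commute.zpow_right (show Commute r y from hry) k).eq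
  refine card_four h inf_le_left ?_ (hc s hsS (mem_centralizer_singleton_iff.1 hy.2).symm) (hc s' hs'S hs'y) hs1 hs'1 hss'
  intro h1
  apply hy1
  have h2 : y ∈ S := h.cent y (fun r hr => by
    rw [← h1] at hr
    exact ((mem_cn.1 hr).2 y (mem_zpowers y)).symm)
  exact eq_one_of_odd (odd_of_mem ho hy.1) (h.sq y h2)

/-- the element `v * z` with `v ∈ V`, `z ∈ Y` -/
theorem RS.split (h : RS S) {V Y : Subgroup G} (hV : V ≤ S) (ho : Odd (Nat.card Y))
    (hc : ∀ y ∈ Y, ∀ v ∈ V, v * y = y * v) {v z : G} (hv : v ∈ V) (hz : z ∈ Y) :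
    ((v * z) * (v * z) = 1 → z = 1) ∧ (Odd (orderOf (v * z)) → v = 1) := by
  have h1 := hc z hz v hv
  constructor
  · intro h2
    have h3 : v * z * (v * z) = z * z := by
      calc v * z * (v * z) = v * (z * v) * z := by group
        _ = (v * v) * (z * z) := by rw [← h1]; group
        _ = z * z := by rw [h.sq v (hV hv), one_mul]
    rw [h3] at h2
    exact eq_one_of_odd (odd_of_mem ho hz) h2
  · intro h2
    obtain ⟨k, hk⟩ := h2
    have h3 : (v * z) ^ (2 * k + 1) = 1 := by rw [← hk]; exact pow_orderOf_eq_one _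
    have h4 : v ^ (2 * k + 1) = v := by
      rw [pow_succ, pow_mul, pow_two, h.sq v (hV hv), one_pow, one_mul]
    rw [(show Commute v z from h1).mul_pow, h4] at h3
    have h5 : v ∈ Y := by
      rw [mul_eq_one_iff_eq_inv.1 h3]
      exact Y.inv_mem (Y.pow_mem hz _)
    exact eq_one_of_odd (odd_of_mem ho h5) (h.sq v (hV hv))

/-- **Claim 1**: a nontrivial subgroup of odd order normalised by `S` is centralised by exactly four elements of `S`. -/
theorem RS.cn_card (h : RS S) {D : Subgroup G} (hD : D ≠ ⊥) (ho : Odd (Nat.card D))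
    (hn : ∀ s ∈ S, ∀ x ∈ D, s * x * s⁻¹ ∈ D) : Nat.card (cn S D) = 4 := by
  have hsol : Group.IsSolvable D := Cfsg.Agent.S0205.result ho
  obtain ⟨q, hq, V0, hV0D, hV0, hqV, hnV⟩ :=
    Cfsg.Agent.OddOrderLocal.FitCores.exists_pgroup_le_of_solvable hsol hD
  have : Fact q.Prime := ⟨hq⟩
  have hSN : ∀ s ∈ S, s ∈ normalizer (D : Set G) := by
    intro s hs
    rw [mem_normalizer_iff]
    intro x
    refine ⟨hn s hs x, fun hx => ?_⟩
    have h1 := hn s hs _ hx
    have h2 : s * (s * x * s⁻¹) * s⁻¹ = x := by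
      rw [h.inv hs]
      calc s * (s * x * s) * s = (s * s) * x * (s * s) := by group
        _ = x := by rw [h.sq s hs, one_mul, mul_one]
    rwa [h2] at h1
  let M : Subgroup G := V0 ⊓ centralizer (V0 : Set G)
  have hMmem : ∀ x, x ∈ M ↔ x ∈ V0 ∧ ∀ y ∈ V0, y * x = x * y := fun x => by
    rw [mem_inf, mem_centralizer_iff]; rfl
  have hM : M ≠ ⊥ := by
    have : Nontrivial V0 := (Subgroup.nontrivial_iff_ne_bot _).2 hV0
    have h1 := hqV.center_nontrivial
    obtain ⟨⟨z, hz⟩, hz1⟩ := exists_ne (1 : center V0)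
    intro h2
    apply hz1
    apply Subtype.ext
    apply Subtype.ext
    have h3 : (z : G) ∈ M := by
      refine (hMmem _).2 ⟨z.2, fun y hy => ?_⟩
      exact congrArg Subtype.val (mem_center_iff.1 hz ⟨y, hy⟩)
    rw [h2, mem_bot] at h3
    exact h3
  have hMD : M ≤ D := inf_le_left.trans hV0D
  have hMn : ∀ g, g ∈ normalizer (D : Set G) → ∀ x ∈ M, g * x * g⁻¹ ∈ M := by
    intro g hg x hx
    have h1 := hnV hg
    have h2 := (hMmem x).1 hx
    refine (hMmem _).2 ⟨(mem_normalizer_iff.1 h1 x).1 h2.1, fun y hy => ?_⟩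
    have h3 : g⁻¹ * y * g ∈ V0 := by
      have h4 := (mem_normalizer_iff.1 ((normalizer (V0 : Set G)).inv_mem h1) y).1 hy
      simpa using h4
    have h5 := h2.2 _ h3
    calc y * (g * x * g⁻¹) = g * ((g⁻¹ * y * g) * x) * g⁻¹ := by group
      _ = g * (x * (g⁻¹ * y * g)) * g⁻¹ := by rw [h5]
      _ = g * x * g⁻¹ * y := by group
  have hoM : Odd (Nat.card M) := ho.of_dvd_nat (card_dvd_of_le hMD)
  obtain ⟨x, hx, hx1, hx4⟩ := h.exists_fixed hM hoM (fun s hs => hMn s (hSN s hs))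
  set V := cn S (zpowers x) with hVdef
  have hVS : V ≤ S := inf_le_left
  obtain ⟨Y, -, hYo, hYV, -, hYm, hYc⟩ := h.loc V hVS hx4
  have hVx : ∀ v ∈ V, v * x = x * v := fun v hv => (mem_cn.1 hv).2 x (mem_zpowers x)
  have hxY : x ∈ Y := hYm x hVx (odd_of_mem hoM hx)
  have hDn : ∀ d ∈ D, d ∈ normalizer (D : Set G) := fun d hd => le_normalizer hd
  -- `M ≤ Y`
  have hMY : ∀ m ∈ M, m ∈ Y := by
    intro m hm
    have h1 : m * x = x * m := ((hMmem x).1 hx).2 m ((hMmem m).1 hm).1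
    obtain ⟨v, hv, z, hz, rfl⟩ := hYc x hxY hx1 m h1
    rw [(h.split hVS hYo hYV hv hz).2 (odd_of_mem hoM hm), one_mul]
    exact hz
  -- `V` centralises `M`, and is normalised by `D`
  have hVD : ∀ v ∈ V, ∀ d ∈ D, d * v * d⁻¹ ∈ V := by
    intro v hv d hd
    have h1 : ∀ m ∈ M, (d * v * d⁻¹) * m = m * (d * v * d⁻¹) := by
      intro m hm
      have h2 : d⁻¹ * m * d ∈ M := by
        have := hMn _ (hDn _ (D.inv_mem hd)) m hm
        simpa using this
      have h3 := hYV _ (hMY _ h2) v hv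
      calc (d * v * d⁻¹) * m = d * (v * (d⁻¹ * m * d)) * d⁻¹ := by group
        _ = d * ((d⁻¹ * m * d) * v) * d⁻¹ := by rw [h3]
        _ = m * (d * v * d⁻¹) := by group
    obtain ⟨v', hv', z, hz, he⟩ := hYc x hxY hx1 _ (h1 x hx)
    have h2 : (d * v * d⁻¹) * (d * v * d⁻¹) = 1 := by
      calc (d * v * d⁻¹) * (d * v * d⁻¹) = d * (v * v) * d⁻¹ := by group
        _ = 1 := by rw [h.sq v (hVS hv)]; group
    rw [he] at h2
    rw [he, (h.split hVS hYo hYV hv' hz).1 h2, mul_one]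
    exact hv'
  have hVcD : ∀ v ∈ V, ∀ d ∈ D, v * d = d * v := by
    intro v hv d hd
    have h1 : d * v * d⁻¹ * v⁻¹ ∈ V := V.mul_mem (hVD v hv d hd) (V.inv_mem hv)
    have h2 : d * v * d⁻¹ * v⁻¹ ∈ D := by
      have h3 := hn v (hVS hv) _ (D.inv_mem hd)
      have h4 : d * v * d⁻¹ * v⁻¹ = d * (v * d⁻¹ * v⁻¹) := by group
      rw [h4]
      exact D.mul_mem hd h3
    have h3 := eq_one_of_odd (odd_of_mem ho h2) (h.sq _ (hVS h1))
    have h4 : d * v = v * d := by
      have h5 : d * v * d⁻¹ = v := mul_inv_eq_one.1 h3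
      exact mul_inv_eq_iff_eq_mul.1 h5
    exact h4.symm
  have h1 : V ≤ cn S D := fun v hv => mem_cn.2 ⟨hVS hv, hVcD v hv⟩
  have h2 : cn S D ≤ V := by
    rw [hVdef]
    exact cn_anti ((zpowers_le).2 (hMD hx))
  rw [le_antisymm h2 h1]
  exact hx4

/-- The consequences of Claim 1 and of the local structure. -/
theorem RS.cn_loc (h : RS S) {D : Subgroup G} (hD : D ≠ ⊥) (ho : Odd (Nat.card D))
    (hn : ∀ s ∈ S, ∀ x ∈ D, s * x * s⁻¹ ∈ D) : ∃ Y : Subgroup G, IsCyclic Y ∧ D ≤ Y ∧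
      (∀ D' : Subgroup G, Odd (Nat.card D') → cn S D ≤ cn S D' → D' ≤ Y) ∧
      (∀ s ∈ S, s ∉ cn S D → ∀ d ∈ D, s * d * s⁻¹ = d⁻¹) := by
  have h1 := h.cn_card hD ho hn
  obtain ⟨Y, hYc, hYo, hYV, hYi, hYm, -⟩ := h.loc (cn S D) inf_le_left h1
  have h2 : ∀ D' : Subgroup G, Odd (Nat.card D') → cn S D ≤ cn S D' → D' ≤ Y := by
    intro D' ho' hD' d hd
    exact hYm d (fun v hv => (mem_cn.1 (hD' hv)).2 d hd) (odd_of_mem ho' hd)
  have h3 := h2 D ho le_rfl
  exact ⟨Y, hYc, h3, h2, fun s hs hsV d hd => hYi s hs hsV d (h3 hd)⟩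

/-- same centraliser in `S` and same order: equal -/
theorem RS.eq_of_cn (h : RS S) {D D' : Subgroup G} (hD : D ≠ ⊥) (ho : Odd (Nat.card D))
    (hn : ∀ s ∈ S, ∀ x ∈ D, s * x * s⁻¹ ∈ D) (hcard : Nat.card D' = Nat.card D) (hcn : cn S D ≤ cn S D') :
    D' = D := by
  obtain ⟨Y, hY, hDY, h1, -⟩ := h.cn_loc hD ho hn
  exact Cfsg.Agent.OddOrderLocal.CyclicSub.eq_of_card_eq_of_le_cyclic hY (h1 D' (hcard ▸ ho) hcn) hDY hcard

end

end Cfsg.Agent.H196.Ron
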