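import Mathlib
import Cfsg.Agent.H196.Ron.Odd
import Cfsg.Agent.BpSpor.Cen
import Cfsg.Agent.LFourA.Burn

/-!
# S2527, rows `²G₂(q)` and `J₁` (helper196): the action of `N(S)` on `S`
-/

set_option autoImplicit false

namespace Cfsg.Agent.H196.Ron

open Subgroup

universe u

variable {G : Type u} [Group G] [Finite G] {S : Subgroup G}

omit [Finite G] in
theorem mem_norm {S : Subgroup G} {w s : G} (hw : w ∈ normalizer (S : Set G)) (hs : s ∈ S) :
    w * s * w⁻¹ ∈ S := (mem_normalizer_iff.1 hw s).1 hs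

/-- fixed points of an element of prime order of `N(S)` -/
theorem fix_mod {p : ℕ} [Fact p.Prime] {w : G} (hw : orderOf w = p) {V : Subgroup G}
    (hwV : ∀ v ∈ V, w * v * w⁻¹ ∈ V) :
    ∃ c : ℕ, c ∣ Nat.card V ∧ Nat.card V ≡ c [MOD p] ∧ c = Nat.card ↥(V ⊓ centralizer ({w} : Set G)) :=
  ⟨_, card_dvd_of_le inf_le_left, Cfsg.Agent.BpSpor.Cen.card_fix hw hwV, rfl⟩

omit [Finite G] in
theorem RS.not_cent (h : RS S) {w : G} (hw : Odd (orderOf w)) (hw1 : w ≠ 1) : ∃ s ∈ S, w * s ≠ s * w := by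
  by_contra hcon
  push Not at hcon
  exact hw1 (eq_one_of_odd hw (h.sq w (h.cent w hcon)))

theorem RS.fix7 (h : RS S) {w : G} (hw : w ∈ normalizer (S : Set G)) (h7 : orderOf w = 7) :
    ∀ s ∈ S, w * s = s * w → s = 1 := by
  have : Fact (Nat.Prime 7) := ⟨by norm_num⟩
  obtain ⟨c, hc1, hc2, hc3⟩ := fix_mod h7 (V := S) (fun v hv => mem_norm hw hv)
  rw [h.card_S] at hc1 hc2
  have h8 : c ≤ 8 := Nat.le_of_dvd (by norm_num) hc1
  have hne : c ≠ 8 := by
    rintro rfl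
    obtain ⟨s, hs, hsw⟩ := h.not_cent (w := w) (by rw [h7]; decide) (fun h1 => by rw [h1, orderOf_one] at h7; omega)
    apply hsw
    have h1 : S ⊓ centralizer ({w} : Set G) = S := eq_of_le_of_card_ge inf_le_left (by rw [← hc3, h.card_S])
    have h2 : s ∈ S ⊓ centralizer ({w} : Set G) := by rw [h1]; exact hs
    exact (mem_centralizer_singleton_iff.1 h2.2).symm
  have hc : c = 1 := by
    unfold Nat.ModEq at hc2
    omega
  intro s hs hsw
  have h1 : S ⊓ centralizer ({w} : Set G) = ⊥ := by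
    rw [← card_eq_one, ← hc3, hc]
  rw [← mem_bot, ← h1]
  exact ⟨hs, mem_centralizer_singleton_iff.2 hsw.symm⟩

/-- the conjugates of `s` under the powers of an element of order 7 are distinct -/
theorem RS.inj7 (h : RS S) {w : G} (hw : w ∈ normalizer (S : Set G)) (h7 : orderOf w = 7) {s : G} (hs : s ∈ S)
    (hs1 : s ≠ 1) {i j : ℕ} (hi : i < 7) (hj : j < 7)
    (he : w ^ i * s * (w ^ i)⁻¹ = w ^ j * s * (w ^ j)⁻¹) : i = j := by
  have hlt : ∀ i j : ℕ, i < j → j < 7 → w ^ i * s * (w ^ i)⁻¹ ≠ w ^ j * s * (w ^ j)⁻¹ := by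
    intro i j hij hj h1
    have h2 : w ^ (j - i) * s = s * w ^ (j - i) := by
      have h3 : w ^ j = w ^ i * w ^ (j - i) := by rw [← pow_add]; congr 1; omega
      rw [h3] at h1
      have h4 : w ^ (j - i) * s * (w ^ (j - i))⁻¹ = s := by
        have h5 : w ^ (j - i) * s * (w ^ (j - i))⁻¹ =
            (w ^ i)⁻¹ * (w ^ i * w ^ (j - i) * s * (w ^ i * w ^ (j - i))⁻¹) * w ^ i := by group
        rw [h5, ← h1]; group
      exact mul_inv_eq_iff_eq_mul.1 h4
    have h5 : orderOf (w ^ (j - i)) = 7 := by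
      have h6 : (orderOf w).Coprime (j - i) := by
        rw [h7, Nat.Prime.coprime_iff_not_dvd (by norm_num)]
        intro h8
        have := Nat.le_of_dvd (by omega) h8
        omega
      rw [h6.orderOf_pow, h7]
    exact hs1 (h.fix7 (pow_mem hw _) h5 s hs h2)
  rcases lt_trichotomy i j with h2 | h2 | h2
  · exact absurd he (hlt _ _ h2 hj)
  · exact h2
  · exact absurd he.symm (hlt _ _ h2 hi)

theorem RS.trans7 (h : RS S) {w : G} (hw : w ∈ normalizer (S : Set G)) (h7 : orderOf w = 7) {s t : G} (hs : s ∈ S)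
    (hs1 : s ≠ 1) (ht : t ∈ S) (ht1 : t ≠ 1) : ∃ i : ℕ, i < 7 ∧ w ^ i * s * (w ^ i)⁻¹ = t := by
  classical
  have hwi : ∀ i : ℕ, w ^ i ∈ normalizer (S : Set G) := fun i => pow_mem hw i
  have hne : ∀ i : ℕ, w ^ i * s * (w ^ i)⁻¹ ≠ 1 := by
    intro i h1
    apply hs1
    have h2 : s = (w ^ i)⁻¹ * (w ^ i * s * (w ^ i)⁻¹) * w ^ i := by group
    rw [h2, h1]; group
  let f : Fin 7 → {x : S // x ≠ 1} := fun i => ⟨⟨w ^ (i : ℕ) * s * (w ^ (i : ℕ))⁻¹, mem_norm (hwi _) hs⟩,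
    fun h1 => hne i (congrArg Subtype.val h1)⟩
  have hf : Function.Injective f := by
    intro i j hij
    have h1 : w ^ (i : ℕ) * s * (w ^ (i : ℕ))⁻¹ = w ^ (j : ℕ) * s * (w ^ (j : ℕ))⁻¹ :=
      congrArg (fun x => ((x : S) : G)) (congrArg Subtype.val hij)
    exact Fin.ext (h.inj7 hw h7 hs hs1 i.2 j.2 h1)
  have hcard : Nat.card (Fin 7) = Nat.card {x : S // x ≠ 1} := by
    have := Fintype.ofFinite S
    rw [Nat.card_fin, Nat.card_eq_fintype_card, Fintype.card_subtype_compl, Fintype.card_subtype_eq,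
      ← Nat.card_eq_fintype_card, h.card_S]
  have hb : Function.Bijective f := (Nat.bijective_iff_injective_and_card f).2 ⟨hf, hcard⟩
  obtain ⟨i, hi⟩ := hb.2 ⟨⟨t, ht⟩, fun h1 => ht1 (congrArg Subtype.val h1)⟩
  exact ⟨i, i.2, congrArg (fun x => ((x : S) : G)) (congrArg Subtype.val hi)⟩

omit [Finite G] in
theorem conj_eq_of_comm {g c s : G} (h : c * s = s * c) : (g * c) * s * (g * c)⁻¹ = g * s * g⁻¹ := by
  calc (g * c) * s * (g * c)⁻¹ = g * (c * s) * c⁻¹ * g⁻¹ := by group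
    _ = g * s * g⁻¹ := by rw [h]; group

theorem exists_order {T : Subgroup G} (p : ℕ) [Fact p.Prime] (hp : p ∣ Nat.card T) : ∃ w ∈ T, orderOf w = p := by
  obtain ⟨⟨w, hwT⟩, hw⟩ := exists_prime_orderOf_dvd_card' p hp
  exact ⟨w, hwT, by rw [← hw]; exact (Subgroup.orderOf_mk _ _).symm⟩

/-- `C_T(s)` for `T ≤ N(S)` of order divisible by 7 -/
theorem RS.cent7 (h : RS S) {T : Subgroup G} (hT : T ≤ normalizer (S : Set G)) (h7 : 7 ∣ Nat.card T) {s : G}
    (hs : s ∈ S) (hs1 : s ≠ 1) : 7 * Nat.card ↥(T ⊓ centralizer ({s} : Set G)) = Nat.card T := by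
  have : Fact (Nat.Prime 7) := ⟨by norm_num⟩
  obtain ⟨w, hwT, hw7⟩ := exists_order 7 h7
  have hwN := hT hwT
  let f : Fin 7 × ↥(T ⊓ centralizer ({s} : Set G)) → T := fun x =>
    ⟨w ^ (x.1 : ℕ) * x.2, T.mul_mem (T.pow_mem hwT _) x.2.2.1⟩
  have hf : Function.Bijective f := by
    constructor
    · rintro ⟨i, c⟩ ⟨j, d⟩ he
      have h1 : w ^ (i : ℕ) * (c : G) = w ^ (j : ℕ) * (d : G) := congrArg Subtype.val he
      have hc := mem_centralizer_singleton_iff.1 c.2.2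
      have hd := mem_centralizer_singleton_iff.1 d.2.2
      have h2 : (i : ℕ) = j := h.inj7 hwN hw7 hs hs1 i.2 j.2 (by
        rw [← conj_eq_of_comm (g := w ^ (i : ℕ)) hc, ← conj_eq_of_comm (g := w ^ (j : ℕ)) hd, h1])
      rw [h2] at h1
      exact Prod.ext (Fin.ext h2) (Subtype.ext (mul_left_cancel h1))
    · rintro ⟨t, ht⟩
      have h1 : t * s * t⁻¹ ∈ S := mem_norm (hT ht) hs
      have h2 : t * s * t⁻¹ ≠ 1 := by
        intro h3
        apply hs1
        have h4 : s = t⁻¹ * (t * s * t⁻¹) * t := by group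
        rw [h4, h3]; group
      obtain ⟨i, hi, he⟩ := h.trans7 hwN hw7 hs hs1 h1 h2
      refine ⟨⟨⟨i, hi⟩, ⟨(w ^ i)⁻¹ * t, T.mul_mem (T.inv_mem (T.pow_mem hwT _)) ht, ?_⟩⟩, Subtype.ext ?_⟩
      · refine mem_centralizer_singleton_iff.2 ?_
        calc (w ^ i)⁻¹ * t * s = (w ^ i)⁻¹ * (t * s * t⁻¹) * t := by group
          _ = s * ((w ^ i)⁻¹ * t) := by rw [← he]; group
      · show w ^ i * ((w ^ i)⁻¹ * t) = t
        group
  have h1 := Nat.card_congr (Equiv.ofBijective f hf)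
  rw [Nat.card_prod, Nat.card_fin] at h1
  exact h1

/-- the fixed point of an element of order 3 -/
theorem RS.fix3 (h : RS S) {w : G} (hw : w ∈ normalizer (S : Set G)) (h3 : orderOf w = 3) :
    ∃ a ∈ S, a ≠ 1 ∧ w * a = a * w ∧ ∀ s ∈ S, w * s = s * w → s = 1 ∨ s = a := by
  have : Fact (Nat.Prime 3) := ⟨by norm_num⟩
  obtain ⟨c, hc1, hc2, hc3⟩ := fix_mod h3 (V := S) (fun v hv => mem_norm hw hv)
  rw [h.card_S] at hc1 hc2
  have h8 : c ≤ 8 := Nat.le_of_dvd (by norm_num) hc1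
  have hne : c ≠ 8 := by
    rintro rfl
    obtain ⟨s, hs, hsw⟩ := h.not_cent (w := w) (by rw [h3]; decide) (fun h1 => by rw [h1, orderOf_one] at h3; omega)
    apply hsw
    have h1 : S ⊓ centralizer ({w} : Set G) = S := eq_of_le_of_card_ge inf_le_left (by rw [← hc3, h.card_S])
    have h2 : s ∈ S ⊓ centralizer ({w} : Set G) := by rw [h1]; exact hs
    exact (mem_centralizer_singleton_iff.1 h2.2).symm
  have hc : c = 2 := by
    unfold Nat.ModEq at hc2
    clear hc3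
    interval_cases c <;> omega
  rw [hc] at hc3
  have h1 : Nat.card ↥(S ⊓ centralizer ({w} : Set G)) = 2 := hc3.symm
  rw [Nat.card_eq_two_iff] at h1
  obtain ⟨x, y, hxy, hu⟩ := h1
  have hall : ∀ z : ↥(S ⊓ centralizer ({w} : Set G)), z = x ∨ z = y := fun z => by
    have : z ∈ ({x, y} : Set _) := by rw [hu]; trivial
    simpa using this
  -- one of them is 1
  obtain ⟨a, ha1, ha⟩ : ∃ a : ↥(S ⊓ centralizer ({w} : Set G)), a ≠ 1 ∧ ∀ z, z = 1 ∨ z = a := by
    rcases hall 1 with h1 | h1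
    · exact ⟨y, fun h2 => hxy (h1.symm.trans h2.symm), fun z => h1 ▸ hall z⟩
    · exact ⟨x, fun h2 => hxy (h2.trans h1), fun z => (h1 ▸ hall z).symm⟩
  refine ⟨a, a.2.1, fun h1 => ha1 (Subtype.ext h1), (mem_centralizer_singleton_iff.1 a.2.2).symm, ?_⟩
  intro s hs hsw
  rcases ha ⟨s, hs, mem_centralizer_singleton_iff.2 hsw.symm⟩ with h1 | h1
  · exact Or.inl (congrArg Subtype.val h1)
  · exact Or.inr (congrArg Subtype.val h1)

end Cfsg.Agent.H196.Ron
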