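import Mathlib
import Cfsg.Agent.H196.Ron.Norm

/-!
# S2527, rows `²G₂(q)` and `J₁` (helper196): four-subgroups of `S` and elements of order 3 of `N(S)`
-/

set_option autoImplicit false

namespace Cfsg.Agent.H196.Ron

open Subgroup

universe u

variable {G : Type u} [Group G] [Finite G] {S : Subgroup G}

theorem RS.mem_of_24 (h : RS S) {T : Subgroup G} (hT : T ≤ normalizer (S : Set G)) (hST : S ≤ T)
    (h24 : Nat.card T = 24) {m : G} (hm : m ∈ normalizer (S : Set G)) (hmT : ∀ t ∈ T, m * t * m⁻¹ ∈ T) : m ∈ T := by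
  have : Fact (Nat.Prime 3) := ⟨by norm_num⟩
  obtain ⟨w, hwT, hw3⟩ := exists_order 3 (T := T) (by rw [h24]; norm_num)
  obtain ⟨a, ha, ha1, hwa, hfix⟩ := h.fix3 (hT hwT) hw3
  have hTa : T ≤ centralizer ({a} : Set G) := by
    have h1 : 8 ∣ Nat.card ↥(T ⊓ centralizer ({a} : Set G)) := by
      rw [← h.card_S]
      exact card_dvd_of_le (le_inf hST (fun s hs => mem_centralizer_singleton_iff.2 (h.comm hs ha)))
    have h2 : 3 ∣ Nat.card ↥(T ⊓ centralizer ({a} : Set G)) := by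
      rw [← hw3]
      exact Subgroup.orderOf_dvd_natCard _ ⟨hwT, mem_centralizer_singleton_iff.2 hwa⟩
    have h3 : Nat.card ↥(T ⊓ centralizer ({a} : Set G)) ∣ 24 := h24 ▸ card_dvd_of_le inf_le_left
    have h4 : Nat.card ↥(T ⊓ centralizer ({a} : Set G)) = 24 := by
      apply Nat.dvd_antisymm h3
      exact (by norm_num : Nat.Coprime 8 3).mul_dvd_of_dvd_of_dvd h1 h2
    have h5 : T ⊓ centralizer ({a} : Set G) = T := eq_of_le_of_card_ge inf_le_left (by rw [h4, h24])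
    exact inf_eq_left.1 h5
  have hmN : m⁻¹ * w * m ∈ T := by
    have h1 : m ∈ normalizer (T : Set G) := mem_normalizer_fintype hmT
    have h2 := (mem_normalizer_iff.1 ((normalizer (T : Set G)).inv_mem h1) w).1 hwT
    simpa using h2
  have h1 : w * (m * a * m⁻¹) = (m * a * m⁻¹) * w := by
    have h2 := mem_centralizer_singleton_iff.1 (hTa hmN)
    calc w * (m * a * m⁻¹) = m * ((m⁻¹ * w * m) * a) * m⁻¹ := by group
      _ = (m * a * m⁻¹) * w := by rw [h2]; group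
  have h2 : m * a * m⁻¹ = a := by
    rcases hfix _ (mem_norm hm ha) h1 with h3 | h3
    · exfalso
      apply ha1
      have h4 : a = m⁻¹ * (m * a * m⁻¹) * m := by group
      rw [h4, h3]; group
    · exact h3
  have h3 : m ∈ normalizer (S : Set G) ⊓ centralizer ({a} : Set G) :=
    ⟨hm, mem_centralizer_singleton_iff.2 (mul_inv_eq_iff_eq_mul.1 h2)⟩
  have h4 := h.cent7 (T := normalizer (S : Set G)) le_rfl (by rw [h.card_N]; norm_num) ha ha1
  rw [h.card_N] at h4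
  have h5 : T = normalizer (S : Set G) ⊓ centralizer ({a} : Set G) :=
    eq_of_le_of_card_ge (le_inf hT hTa) (by rw [h24]; omega)
  rw [h5]
  exact h3

omit [Finite G] in
theorem RS.mul_mem_of (h : RS S) {V : Subgroup G} (hV : V ≤ S) (h4 : Nat.card V = 4) {x y : G} (hx : x ∈ S)
    (hy : y ∈ S) (hxV : x ∉ V) (hyV : y ∉ V) : x * y ∈ V := by
  have h1 : (V.subgroupOf S).index = 2 := by
    have h2 := (V.subgroupOf S).card_mul_index
    rw [Nat.card_congr (subgroupOfEquivOfLe hV).toEquiv, h4, h.card_S] at h2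
    omega
  have h2 := (Subgroup.mul_mem_iff_of_index_two h1 (a := ⟨x, hx⟩) (b := ⟨y, hy⟩)).2
    ⟨fun h3 => absurd h3 hxV, fun h3 => absurd h3 hyV⟩
  exact h2

theorem card_div4 {V A : Subgroup G} (h4 : Nat.card V = 4) (hA : A ≤ V) (hne : A ≠ V) : Nat.card A = 1 ∨ Nat.card A = 2 := by
  have h1 : Nat.card A ∣ 4 := h4 ▸ card_dvd_of_le hA
  have h2 : Nat.card A ≠ 4 := fun h3 => hne (eq_of_le_of_card_ge hA (by rw [h3, h4]))
  have h3 := Nat.le_of_dvd (by norm_num) h1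
  have h5 := Nat.card_pos (α := A)
  interval_cases hc : Nat.card A <;> omega

/-- two different four-subgroups containing `a` -/
theorem RS.inf_eq (h : RS S) {V V' : Subgroup G} (hV : V ≤ S) (h4 : Nat.card V = 4)
    (h4' : Nat.card V' = 4) (hne : V ≠ V') {a : G} (ha1 : a ≠ 1) (ha : a ∈ V) (ha' : a ∈ V') {z : G} (hz : z ∈ V)
    (hz' : z ∈ V') : z = 1 ∨ z = a := by
  by_contra hcon
  push Not at hcon
  have h1 : Nat.card ↥(V ⊓ V') = 4 := by
    refine card_four h (inf_le_left.trans hV) ?_ (s := a) (t := z) ⟨ha, ha'⟩ ⟨hz, hz'⟩ ha1 hcon.1 hcon.2.symm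
    intro h2
    have h3 := card_dvd_of_le (show S ≤ V by rw [← h2]; exact inf_le_left)
    rw [h.card_S, h4] at h3
    omega
  have h2 : V ⊓ V' = V := eq_of_le_of_card_ge inf_le_left (by rw [h1, h4])
  have h3 : V ⊓ V' = V' := eq_of_le_of_card_ge inf_le_right (by rw [h1, h4'])
  exact hne (h2.symm.trans h3)

variable {w a : G}

/-- a `w`-invariant four-subgroup does not contain `a` -/
theorem RS.notMem_of_inv (_h : RS S) (hw3 : orderOf w = 3)
    (hfix : ∀ s ∈ S, w * s = s * w → s = 1 ∨ s = a) (hwa : w * a = a * w) (ha1 : a ≠ 1) {V : Subgroup G} (hV : V ≤ S)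
    (h4 : Nat.card V = 4) (hwV : ∀ v ∈ V, w * v * w⁻¹ ∈ V) : a ∉ V := by
  have : Fact (Nat.Prime 3) := ⟨by norm_num⟩
  obtain ⟨c, hc1, hc2, hc3⟩ := fix_mod hw3 (V := V) hwV
  intro haV
  rw [h4] at hc1 hc2
  have h8 : c ≤ 4 := Nat.le_of_dvd (by norm_num) hc1
  have hne : c ≠ 4 := by
    rintro rfl
    have h1 : V ⊓ centralizer ({w} : Set G) = V := eq_of_le_of_card_ge inf_le_left (by rw [← hc3, h4])
    have h2 : V ≤ zpowers a := by
      intro v hv
      rw [← h1] at hv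
      rcases hfix v (hV hv.1) (mem_centralizer_singleton_iff.1 hv.2).symm with h3 | h3
      · rw [h3]; exact one_mem _
      · rw [h3]; exact mem_zpowers _
    have h3 := card_dvd_of_le h2
    rw [h4, Nat.card_zpowers] at h3
    have h5 : orderOf a ∣ 2 := orderOf_dvd_of_pow_eq_one (by rw [pow_two, _h.sq a (hV haV)])
    have h6 := Nat.le_of_dvd (by norm_num) (h3.trans h5)
    omega
  have hc : c = 1 := by
    unfold Nat.ModEq at hc2
    omega
  rw [hc] at hc3
  have h1 : V ⊓ centralizer ({w} : Set G) = ⊥ := by rw [← card_eq_one, ← hc3]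
  apply ha1
  rw [← mem_bot, ← h1]
  exact ⟨haV, mem_centralizer_singleton_iff.2 hwa.symm⟩

theorem RS.inf_ne_bot (h : RS S) {V V' : Subgroup G} (hV : V ≤ S) (h4 : Nat.card V = 4) (hV' : V' ≤ S)
    (h4' : Nat.card V' = 4) : V ⊓ V' ≠ ⊥ := by
  intro h2
  have hnot : ∀ x ∈ V', x ≠ 1 → x ∉ V := by
    intro x hx hx1 hxV
    apply hx1
    rw [← mem_bot, ← h2]
    exact ⟨hxV, hx⟩
  obtain ⟨x, hx, hx1⟩ := exists_notMem (S := V') (A := ⊥) (by rw [h4', card_bot]; norm_num)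
  rw [mem_bot] at hx1
  obtain ⟨y, hy, hyx⟩ := exists_notMem (S := V') (A := zpowers x) (by
    rw [h4', Nat.card_zpowers]
    have : orderOf x ∣ 2 := orderOf_dvd_of_pow_eq_one (by rw [pow_two, h.sq x (hV' hx)])
    exact (Nat.le_of_dvd (by norm_num) this).trans_lt (by norm_num))
  have hy1 : y ≠ 1 := fun h3 => hyx (h3 ▸ one_mem _)
  have hxy : x * y ≠ 1 := by
    intro h3
    apply hyx
    rw [← inv_eq_of_mul_eq_one_right h3]
    exact inv_mem (mem_zpowers x)
  exact hnot _ (V'.mul_mem hx hy) hxy (h.mul_mem_of hV h4 (hV' hx) (hV' hy) (hnot x hx hx1) (hnot y hy hy1))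

/-- there is only one `w`-invariant four-subgroup -/
theorem RS.inv_unique (h : RS S) (hw3 : orderOf w = 3)
    (hfix : ∀ s ∈ S, w * s = s * w → s = 1 ∨ s = a) (hwa : w * a = a * w) (ha1 : a ≠ 1) {V V' : Subgroup G}
    (hV : V ≤ S) (h4 : Nat.card V = 4) (hwV : ∀ v ∈ V, w * v * w⁻¹ ∈ V)
    (hV' : V' ≤ S) (h4' : Nat.card V' = 4) (hwV' : ∀ v ∈ V', w * v * w⁻¹ ∈ V') : V = V' := by
  have : Fact (Nat.Prime 3) := ⟨by norm_num⟩
  by_contra hne
  have haV := h.notMem_of_inv hw3 hfix hwa ha1 hV h4 hwV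
  have h1 : V ⊓ V' ≠ V := by
    intro h2
    apply hne
    exact eq_of_le_of_card_ge (inf_eq_left.1 h2) (by rw [h4, h4'])
  -- the intersection has order 2
  have h2 : V ⊓ V' ≠ ⊥ := h.inf_ne_bot hV h4 hV' h4'
  have h3 : Nat.card ↥(V ⊓ V') = 2 := by
    rcases card_div4 h4 inf_le_left h1 with h5 | h5
    · exact absurd (card_eq_one.1 h5) h2
    · exact h5
  obtain ⟨c, hc1, hc2, hc3⟩ := fix_mod hw3 (V := V ⊓ V') (fun v hv => ⟨hwV v hv.1, hwV' v hv.2⟩)
  rw [h3] at hc1 hc2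
  have h8 : c ≤ 2 := Nat.le_of_dvd (by norm_num) hc1
  have hc : c = 2 := by
    unfold Nat.ModEq at hc2
    omega
  rw [hc] at hc3
  have h5 : (V ⊓ V') ⊓ centralizer ({w} : Set G) = V ⊓ V' := eq_of_le_of_card_ge inf_le_left (by rw [← hc3, h3])
  obtain ⟨⟨x, hx⟩, hx0⟩ := ne_bot_iff_exists_ne_one.1 h2
  have hx1 : x ≠ 1 := fun h6 => hx0 (Subtype.ext h6)
  have h6 := hx
  rw [← h5] at h6
  rcases hfix x (hV hx.1) (mem_centralizer_singleton_iff.1 h6.2).symm with h7 | h7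
  · exact hx1 h7
  · exact haV (h7 ▸ hx.1)

/-- the four-subgroups which contain `a` are conjugate under `w` -/
theorem RS.conj_of_mem (h : RS S) (hw : w ∈ normalizer (S : Set G)) (hw3 : orderOf w = 3)
    (hfix : ∀ s ∈ S, w * s = s * w → s = 1 ∨ s = a) (hwa : w * a = a * w) (ha1 : a ≠ 1) {V V' : Subgroup G}
    (hV : V ≤ S) (h4 : Nat.card V = 4) (haV : a ∈ V)
    (hV' : V' ≤ S) (h4' : Nat.card V' = 4) (haV' : a ∈ V') :
    ∃ i : ℕ, V.map (MulAut.conj (w ^ i)).toMonoidHom = V' := by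
  have ha : a ∈ S := hV haV
  have hwi : ∀ i : ℕ, w ^ i ∈ normalizer (S : Set G) := fun i => pow_mem hw i
  have hwia : ∀ i : ℕ, w ^ i * a * (w ^ i)⁻¹ = a := by
    intro i
    have : Commute (w ^ i) a := (show Commute w a from hwa).pow_left i
    rw [this.eq]; group
  let U : ℕ → Subgroup G := fun i => V.map (MulAut.conj (w ^ i)).toMonoidHom
  have hUmem : ∀ i v, v ∈ V → w ^ i * v * (w ^ i)⁻¹ ∈ U i := fun i v hv => ⟨v, hv, rfl⟩
  have hUS : ∀ i, U i ≤ S := by
    rintro i _ ⟨v, hv, rfl⟩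
    exact mem_norm (hwi i) (hV hv)
  have hU4 : ∀ i, Nat.card (U i) = 4 := by
    intro i
    show Nat.card (V.map (MulAut.conj (w ^ i)).toMonoidHom) = 4
    rw [card_map_of_injective (MulAut.conj (w ^ i) : G ≃* G).injective, h4]
  have hUa : ∀ i, a ∈ U i := by
    intro i
    have := hUmem i a haV
    rwa [hwia] at this
  -- `w` does not normalise `V`
  obtain ⟨v, hvV, hva⟩ := exists_notMem (S := V) (A := zpowers a) (by
      rw [h4, Nat.card_zpowers]
      have : orderOf a ∣ 2 := orderOf_dvd_of_pow_eq_one (by rw [pow_two, h.sq a ha])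
      exact (Nat.le_of_dvd (by norm_num) this).trans_lt (by norm_num))
  have hv1 : v ≠ 1 := fun h1 => hva (h1 ▸ one_mem _)
  have hva' : v ≠ a := fun h1 => hva (h1 ▸ mem_zpowers _)
  have hgen : ∀ i, ∀ u : G, orderOf u = 3 → u ∈ normalizer (S : Set G) → u * a = a * u →
      (∀ s ∈ S, u * s = s * u → s = 1 ∨ s = a) → ¬ ∀ x ∈ U i, u * x * u⁻¹ ∈ U i := by
    intro i u hu3 hu hua hufix hcon
    exact h.notMem_of_inv hu3 hufix hua ha1 (hUS i) (hU4 i) hcon (hUa i)
  -- `v ∉ U 1` and `v ∉ U 2`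
  have hne : ∀ i : ℕ, (i = 1 ∨ i = 2) → U i ≠ V := by
    intro i hi he
    have hcop : (orderOf w).Coprime i := by
      rw [hw3]
      rcases hi with rfl | rfl <;> norm_num
    have hu3 : orderOf (w ^ i) = 3 := by rw [hcop.orderOf_pow, hw3]
    have hufix : ∀ s ∈ S, w ^ i * s = s * w ^ i → s = 1 ∨ s = a := by
      intro s hs hsw
      apply hfix s hs
      rcases hi with rfl | rfl
      · simpa using hsw
      · have h2 : w = w ^ 2 * w ^ 2 := by
          have h3 : w ^ 3 = 1 := by rw [← hw3]; exact pow_orderOf_eq_one w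
          calc w = w ^ 3 * w := by rw [h3, one_mul]
            _ = w ^ 2 * w ^ 2 := by group
        rw [h2]
        exact ((show Commute (w ^ 2) s from hsw).mul_left (show Commute (w ^ 2) s from hsw)).eq
    refine h.notMem_of_inv hu3 hufix ((show Commute w a from hwa).pow_left i).eq ha1 hV h4 ?_ haV
    intro x hx
    have := hUmem i x hx
    rwa [he] at this
  have hw3' : w ^ 3 = 1 := by rw [← hw3]; exact pow_orderOf_eq_one w
  have hne12 : U 1 ≠ U 2 := by
    intro he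
    refine hgen 1 w hw3 hw hwa hfix ?_
    rintro _ ⟨z, hz, rfl⟩
    rw [he]
    refine ⟨z, hz, ?_⟩
    show w ^ 2 * z * (w ^ 2)⁻¹ = w * (w ^ 1 * z * (w ^ 1)⁻¹) * w⁻¹
    group
  have hvU : ∀ i : ℕ, (i = 1 ∨ i = 2) → v ∉ U i := by
    intro i hi hvU
    rcases h.inf_eq (hUS i) (hU4 i) h4 (hne i hi) ha1 (hUa i) haV hvU hvV with h1 | h1
    · exact hv1 h1
    · exact hva' h1
  obtain ⟨c, hcV', hca⟩ := exists_notMem (S := V') (A := zpowers a) (by
      rw [h4', Nat.card_zpowers]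
      have : orderOf a ∣ 2 := orderOf_dvd_of_pow_eq_one (by rw [pow_two, h.sq a ha])
      exact (Nat.le_of_dvd (by norm_num) this).trans_lt (by norm_num))
  have hc1 : c ≠ 1 := fun h1 => hca (h1 ▸ one_mem _)
  have hca' : c ≠ a := fun h1 => hca (h1 ▸ mem_zpowers _)
  have hcS := hV' hcV'
  have key : ∀ i, c ∈ U i → U i = V' := by
    intro i hi
    by_contra hne'
    rcases h.inf_eq (hUS i) (hU4 i) h4' hne' ha1 (hUa i) haV' hi hcV' with h1 | h1
    · exact hc1 h1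
    · exact hca' h1
  have hU0 : U 0 = V := by
    ext x
    constructor
    · rintro ⟨y, hy, rfl⟩
      simpa using hy
    · intro hx
      exact ⟨x, hx, by simp⟩
  by_cases hc1' : c ∈ U 1
  · exact ⟨1, key 1 hc1'⟩
  by_cases hc2' : c ∈ U 2
  · exact ⟨2, key 2 hc2'⟩
  refine ⟨0, key 0 ?_⟩
  rw [hU0]
  have h1 := h.mul_mem_of (hUS 1) (hU4 1) hcS (hV hvV) hc1' (hvU 1 (Or.inl rfl))
  have h2 := h.mul_mem_of (hUS 2) (hU4 2) hcS (hV hvV) hc2' (hvU 2 (Or.inr rfl))
  have h3 : c = (c * v) * v := by rw [mul_assoc, h.sq v (hV hvV), mul_one]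
  rcases h.inf_eq (hUS 1) (hU4 1) (hU4 2) hne12 ha1 (hUa 1) (hUa 2) h1 h2 with h5 | h5
  · rw [h3, h5, one_mul]; exact hvV
  · rw [h3, h5]; exact V.mul_mem haV hvV

end Cfsg.Agent.H196.Ron
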