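import Mathlib
import Cfsg.Agent.H196.Ron.Hyper
import Cfsg.Agent.SylowSp4.AltGen
import Cfsg.Agent.UGT.SLCore
import Cfsg.Agent.S1230
import Cfsg.Agent.SmallSimple.S1000.PSLFacts

/-!
# S2527, rows `²G₂(q)` and `J₁` (helper196): overgroups of `S`
-/

set_option autoImplicit false

namespace Cfsg.Agent.H196.Ron

open Subgroup

universe u

variable {G : Type u} [Group G]

/-- conjugate subgroup `m H m⁻¹` -/
abbrev cj (m : G) (H : Subgroup G) : Subgroup G := H.map (MulAut.conj m).toMonoidHom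

theorem mem_cj {m x : G} {H : Subgroup G} : x ∈ cj m H ↔ m⁻¹ * x * m ∈ H := by
  constructor
  · rintro ⟨y, hy, rfl⟩
    have h1 : m⁻¹ * (m * y * m⁻¹) * m = y := by group
    show m⁻¹ * (m * y * m⁻¹) * m ∈ H
    rw [h1]; exact hy
  · intro h
    refine ⟨_, h, ?_⟩
    show m * (m⁻¹ * x * m) * m⁻¹ = x
    group

theorem conj_mem_cj {m x : G} {H : Subgroup G} (h : x ∈ H) : m * x * m⁻¹ ∈ cj m H := ⟨x, h, rfl⟩

theorem card_cj (m : G) (H : Subgroup G) : Nat.card (cj m H) = Nat.card H :=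
  card_map_of_injective (MulAut.conj m : G ≃* G).injective

theorem cj_eq_of_norm {m : G} {H : Subgroup G} (h : m ∈ normalizer (H : Set G)) : cj m H = H := by
  ext x
  rw [mem_cj]
  have h1 := mem_normalizer_iff.1 ((normalizer (H : Set G)).inv_mem h) x
  rw [inv_inv] at h1
  exact h1.symm

theorem cj_mono {m : G} {H K : Subgroup G} (h : H ≤ K) : cj m H ≤ cj m K := map_mono h

theorem cj_one (H : Subgroup G) : cj 1 H = H := by
  ext x; rw [mem_cj]; simp

theorem cj_le_of_mem {m : G} {H K : Subgroup G} (hm : m ∈ K) (h : H ≤ K) : cj m H ≤ K := by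
  rintro _ ⟨x, hx, rfl⟩
  exact K.mul_mem (K.mul_mem hm (h hx)) (K.inv_mem hm)

/-- normal complement -/
structure Cp (S K O : Subgroup G) : Prop where
  le : O ≤ K
  odd : Odd (Nat.card O)
  mul : ∀ x ∈ K, ∃ o ∈ O, ∃ s ∈ S, x = o * s
  mem : ∀ x ∈ K, Odd (orderOf x) → x ∈ O
  nrm : ∀ x ∈ O, ∀ y ∈ K, y * x * y⁻¹ ∈ O

variable {S : Subgroup G}

theorem Cp.eq {H H' D : Subgroup G} (c : Cp S H D) (c' : Cp S H' D) (hS : S ≤ H) (hS' : S ≤ H') : H = H' := by
  apply le_antisymm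
  · intro x hx
    obtain ⟨o, ho, s, hs, rfl⟩ := c.mul x hx
    exact H'.mul_mem (c'.le ho) (hS' hs)
  · intro x hx
    obtain ⟨o, ho, s, hs, rfl⟩ := c'.mul x hx
    exact H.mul_mem (c.le ho) (hS hs)

theorem Cp.cj {K O : Subgroup G} (c : Cp S K O) {m : G} (hm : m ∈ normalizer (S : Set G)) :
    Cp S (cj m K) (cj m O) where
  le := cj_mono c.le
  odd := by rw [card_cj]; exact c.odd
  mul := by
    rintro _ ⟨x, hx, rfl⟩
    obtain ⟨o, ho, s, hs, rfl⟩ := c.mul x hx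
    refine ⟨m * o * m⁻¹, conj_mem_cj ho, m * s * m⁻¹, (mem_normalizer_iff.1 hm s).1 hs, ?_⟩
    show m * (o * s) * m⁻¹ = _
    group
  mem := by
    rintro _ ⟨x, hx, rfl⟩ ho
    refine conj_mem_cj (c.mem x hx ?_)
    have h1 : orderOf ((MulAut.conj m) x) = orderOf x := by
      exact orderOf_injective (MulAut.conj m : G ≃* G).toMonoidHom (MulAut.conj m : G ≃* G).injective x
    have h2 : Odd (orderOf ((MulAut.conj m) x)) := ho
    rwa [h1] at h2
  nrm := by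
    rintro _ ⟨x, hx, rfl⟩ _ ⟨y, hy, rfl⟩
    rw [mem_cj]
    have h1 : m⁻¹ * ((MulAut.conj m).toMonoidHom y * (MulAut.conj m).toMonoidHom x *
        ((MulAut.conj m).toMonoidHom y)⁻¹) * m = y * x * y⁻¹ := by
      show m⁻¹ * ((m * y * m⁻¹) * (m * x * m⁻¹) * (m * y * m⁻¹)⁻¹) * m = y * x * y⁻¹
      group
    rw [h1]
    exact c.nrm x hx y hy

theorem Cp.bot_iff {K O : Subgroup G} (c : Cp S K O) (hS : S ≤ K) (h : O = ⊥) : K = S := by
  apply le_antisymm _ hS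
  intro x hx
  obtain ⟨o, ho, s, hs, rfl⟩ := c.mul x hx
  rw [h, mem_bot] at ho
  rw [ho, one_mul]
  exact hs

theorem mem_cn_cj {m : G} (hm : m ∈ normalizer (S : Set G)) {D : Subgroup G} : cn S (cj m D) = cj m (cn S D) := by
  ext x
  rw [mem_cn, mem_cj, mem_cn]
  constructor
  · rintro ⟨h1, h2⟩
    constructor
    · have := (mem_normalizer_iff.1 ((normalizer (S : Set G)).inv_mem hm) x).1 h1
      simpa using this
    · intro d hd
      have h3 := h2 _ (conj_mem_cj (m := m) hd)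
      calc m⁻¹ * x * m * d = m⁻¹ * (x * (m * d * m⁻¹)) * m := by group
        _ = d * (m⁻¹ * x * m) := by rw [h3]; group
  · rintro ⟨h1, h2⟩
    constructor
    · have := (mem_normalizer_iff.1 hm _).1 h1
      have h3 : m * (m⁻¹ * x * m) * m⁻¹ = x := by group
      rwa [h3] at this
    · rintro _ ⟨d, hd, rfl⟩
      have h3 := h2 d hd
      show x * (m * d * m⁻¹) = (m * d * m⁻¹) * x
      calc x * (m * d * m⁻¹) = m * ((m⁻¹ * x * m) * d) * m⁻¹ := by group
        _ = (m * d * m⁻¹) * x := by rw [h3]; group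

variable [Finite G]

omit [Finite G] in
theorem RS.isPGroup (h : RS S) : IsPGroup 2 S := by
  have : Fact (Nat.Prime 2) := ⟨Nat.prime_two⟩
  exact IsPGroup.of_card (n := 3) (by rw [h.card_S]; norm_num)

omit [Finite G] in
theorem RS.odd_relIndex (h : RS S) (K : Subgroup G) (hSK : S ≤ K) : ¬ 2 ∣ S.relIndex K := by
  have h1 : S.relIndex K ∣ S.index := Dvd.intro _ (relIndex_mul_index hSK)
  have h2 : Odd (S.relIndex K) := h.odd.of_dvd_nat h1
  exact h2.not_two_dvd_nat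

theorem RS.exists_cp (h : RS S) {K : Subgroup G} (hSK : S ≤ K) (hN : K ⊓ normalizer (S : Set G) ≤ S) :
    ∃ O, Cp S K O := by
  have : Fact (Nat.Prime 2) := ⟨Nat.prime_two⟩
  obtain ⟨O, h1, h2, h3, h4, h5⟩ := Cfsg.Agent.LFourA.Burn.burnside_in h.isPGroup hSK (h.odd_relIndex K hSK)
    (fun x hx hxS a ha => by
      have h1 : x ∈ normalizer (S : Set G) := mem_normalizer_fintype hxS
      exact h.comm (hN ⟨hx, h1⟩) ha)
  exact ⟨O, h1, Nat.not_even_iff_odd.1 (fun h6 => h2 h6.two_dvd), h3,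
    fun x hx ho => h4 x hx ho.not_two_dvd_nat, fun x hx y hy => h5 x hx y hy⟩

omit [Finite G] in
/-- the possible orders of `K ∩ N(S)` -/
theorem RS.card_cases (h : RS S) {K : Subgroup G} (hSK : S ≤ K) :
    Nat.card ↥(K ⊓ normalizer (S : Set G)) = 8 ∨ Nat.card ↥(K ⊓ normalizer (S : Set G)) = 24 ∨
    Nat.card ↥(K ⊓ normalizer (S : Set G)) = 56 ∨ Nat.card ↥(K ⊓ normalizer (S : Set G)) = 168 := by
  have h1 : 8 ∣ Nat.card ↥(K ⊓ normalizer (S : Set G)) := by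
    rw [← h.card_S]; exact card_dvd_of_le (le_inf hSK le_normalizer)
  have h2 : Nat.card ↥(K ⊓ normalizer (S : Set G)) ∣ 168 := by
    rw [← h.card_N]; exact card_dvd_of_le inf_le_right
  obtain ⟨k, hk⟩ := h1
  rw [hk] at h2 ⊢
  have h3 : k ∣ 21 := by
    rw [show (168 : ℕ) = 8 * 21 by norm_num] at h2
    exact Nat.dvd_of_mul_dvd_mul_left (by norm_num) h2
  have h4 : k ∈ Nat.divisors 21 := Nat.mem_divisors.2 ⟨h3, by norm_num⟩
  have h5 : Nat.divisors 21 = {1, 3, 7, 21} := by decide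
  rw [h5] at h4
  simp only [Finset.mem_insert, Finset.mem_singleton] at h4
  omega

theorem RS.inf_eq_of_8 (h : RS S) {K : Subgroup G} (hSK : S ≤ K)
    (h8 : Nat.card ↥(K ⊓ normalizer (S : Set G)) = 8) : K ⊓ normalizer (S : Set G) ≤ S := by
  have h1 : S = K ⊓ normalizer (S : Set G) :=
    eq_of_le_of_card_ge (le_inf hSK le_normalizer) (by rw [h8, h.card_S])
  exact h1.ge

omit [Finite G] in
theorem Cp.snorm {K O : Subgroup G} (c : Cp S K O) (hSK : S ≤ K) : ∀ s ∈ S, ∀ x ∈ O, s * x * s⁻¹ ∈ O :=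
  fun s hs x hx => c.nrm x hx s (hSK hs)

/-- `|K ∩ N(S)| = 8` -/
theorem RS.case8 (h : RS S) {K H : Subgroup G} (hSK : S ≤ K) (h8 : Nat.card ↥(K ⊓ normalizer (S : Set G)) = 8)
    {m : G} (hm : m ∈ normalizer (S : Set G)) (hSH : S ≤ H) (hHK : H ≤ K) (hHK' : cj m H ≤ K) : cj m H = H := by
  obtain ⟨O, cO⟩ := h.exists_cp hSK (h.inf_eq_of_8 hSK h8)
  obtain ⟨D, cD⟩ := h.exists_cp hSH ((inf_le_inf_right _ hHK).trans (h.inf_eq_of_8 hSK h8))
  have hS' : S ≤ cj m H := by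
    have := cj_mono (m := m) hSH
    rwa [cj_eq_of_norm hm] at this
  have cD' := cD.cj hm
  by_cases hD : D = ⊥
  · have h1 := cD.bot_iff hSH hD
    rw [h1, cj_eq_of_norm hm]
  have hDO : D ≤ O := fun x hx => cO.mem x (hHK (cD.le hx)) (odd_of_mem cD.odd hx)
  have hDO' : cj m D ≤ O := fun x hx => cO.mem x (hHK' (cD'.le hx)) (odd_of_mem cD'.odd hx)
  have hO : O ≠ ⊥ := fun h1 => hD (le_bot_iff.1 (h1 ▸ hDO))
  have h1 := h.cn_card hO cO.odd (cO.snorm hSK)
  have h2 := h.cn_card hD cD.odd (cD.snorm hSH)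
  have h3 : cn S O = cn S D := eq_of_le_of_card_ge (cn_anti hDO) (by rw [h1, h2])
  have h4 : cj m D = D := h.eq_of_cn hD cD.odd (cD.snorm hSH) (card_cj m D) (h3 ▸ cn_anti hDO')
  rw [h4] at cD'
  exact cD'.eq cD hS' hSH

/-- `|K ∩ N(S)| = 56`: the involutions of `S` have centralizer `S` in `K` -/
theorem RS.cent56 (h : RS S) {K : Subgroup G} (hSK : S ≤ K) (h56 : Nat.card ↥(K ⊓ normalizer (S : Set G)) = 56) :
    ∀ s ∈ S, s ≠ 1 → ∀ g ∈ K, g * s = s * g → g ∈ S := by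
  have : Fact (Nat.Prime 7) := ⟨by norm_num⟩
  have hSC : ∀ t ∈ S, S ≤ K ⊓ centralizer ({t} : Set G) := fun t ht =>
    le_inf hSK (fun s hs => mem_centralizer_singleton_iff.2 (h.comm hs ht))
  have hex : ∀ t ∈ S, t ≠ 1 → ∃ O, Cp S (K ⊓ centralizer ({t} : Set G)) O := by
    intro t ht ht1
    apply h.exists_cp (hSC t ht)
    have h1 := h.cent7 (T := K ⊓ normalizer (S : Set G)) inf_le_right (by rw [h56]; norm_num) ht ht1
    rw [h56] at h1
    have h2 : S = (K ⊓ normalizer (S : Set G)) ⊓ centralizer ({t} : Set G) :=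
      eq_of_le_of_card_ge (le_inf (le_inf hSK le_normalizer) ((hSC t ht).trans inf_le_right))
        (by rw [h.card_S]; omega)
    intro x hx
    rw [h2]
    exact ⟨⟨hx.1.1, hx.2⟩, hx.1.2⟩
  intro s hs hs1 g hg hgs
  by_contra hgS
  obtain ⟨w, hw, hw7⟩ := exists_order 7 (T := K ⊓ normalizer (S : Set G)) (by rw [h56]; norm_num)
  have hne : ∀ t ∈ S, t ≠ 1 → ∀ O, Cp S (K ⊓ centralizer ({t} : Set G)) O → O ≠ ⊥ := by
    intro t ht ht1 O cO hO
    obtain ⟨i, -, hi⟩ := h.trans7 hw.2 hw7 hs hs1 ht ht1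
    have h1 := cO.bot_iff (hSC t ht) hO
    have h2 : w ^ i * g * (w ^ i)⁻¹ ∈ K ⊓ centralizer ({t} : Set G) := by
      refine ⟨K.mul_mem (K.mul_mem (K.pow_mem hw.1 _) hg) (K.inv_mem (K.pow_mem hw.1 _)),
        mem_centralizer_singleton_iff.2 ?_⟩
      rw [← hi]
      calc w ^ i * g * (w ^ i)⁻¹ * (w ^ i * s * (w ^ i)⁻¹) = w ^ i * (g * s) * (w ^ i)⁻¹ := by group
        _ = w ^ i * s * (w ^ i)⁻¹ * (w ^ i * g * (w ^ i)⁻¹) := by rw [hgs]; group
    rw [h1] at h2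
    apply hgS
    have h3 := mem_norm (inv_mem (pow_mem hw.2 i)) h2
    have h4 : (w ^ i)⁻¹ * (w ^ i * g * (w ^ i)⁻¹) * ((w ^ i)⁻¹)⁻¹ = g := by group
    rwa [h4] at h3
  -- elements of `V_t` have the same four-group
  have hsame : ∀ t ∈ S, t ≠ 1 → ∀ O, Cp S (K ⊓ centralizer ({t} : Set G)) O → ∀ t' ∈ cn S O, t' ≠ 1 →
      ∀ O', Cp S (K ⊓ centralizer ({t'} : Set G)) O' → cn S O' = cn S O := by
    intro t ht ht1 O cO t' ht' ht'1 O' cO'
    have h1 : O ≤ O' := by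
      intro x hx
      refine cO'.mem x ⟨(cO.le hx).1, mem_centralizer_singleton_iff.2 ?_⟩ (odd_of_mem cO.odd hx)
      exact ((mem_cn.1 ht').2 x hx).symm
    have ht'S := (mem_cn.1 ht').1
    have h2 := h.cn_card (hne t ht ht1 O cO) cO.odd (cO.snorm (hSC t ht))
    have h3 := h.cn_card (hne t' ht'S ht'1 O' cO') cO'.odd (cO'.snorm (hSC t' ht'S))
    exact eq_of_le_of_card_ge (cn_anti h1) (by rw [h2, h3])
  obtain ⟨O, cO⟩ := hex s hs hs1
  have hV := h.cn_card (hne s hs hs1 O cO) cO.odd (cO.snorm (hSC s hs))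
  obtain ⟨s1, hs1S, hs1V⟩ := exists_notMem (S := S) (A := cn S O) (by rw [hV, h.card_S]; norm_num)
  have hs11 : s1 ≠ 1 := fun h1 => hs1V (h1 ▸ one_mem _)
  obtain ⟨O1, cO1⟩ := hex s1 hs1S hs11
  have hV1 := h.cn_card (hne s1 hs1S hs11 O1 cO1) cO1.odd (cO1.snorm (hSC s1 hs1S))
  have hs1V1 : s1 ∈ cn S O1 := mem_cn.2 ⟨hs1S, fun d hd =>
    (mem_centralizer_singleton_iff.1 (cO1.le hd).2).symm⟩
  obtain ⟨⟨s2, hs2⟩, hs20⟩ := ne_bot_iff_exists_ne_one.1 (h.inf_ne_bot (V := cn S O) inf_le_left hV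
    (V' := cn S O1) inf_le_left hV1)
  have hs21 : s2 ≠ 1 := fun h6 => hs20 (Subtype.ext h6)
  obtain ⟨O2, cO2⟩ := hex s2 (mem_cn.1 hs2.1).1 hs21
  have e1 := hsame s hs hs1 O cO s2 hs2.1 hs21 O2 cO2
  have e2 := hsame s1 hs1S hs11 O1 cO1 s2 hs2.2 hs21 O2 cO2
  apply hs1V
  rw [← e1, e2]
  exact hs1V1

/-- `|H ∩ N(S)| = 56`: `S` is normal in `H`, or `H` is `PSL₂(8)` -/
theorem RS.card504 (h : RS S) {H : Subgroup G} (hSH : S ≤ H) (h56 : Nat.card ↥(H ⊓ normalizer (S : Set G)) = 56)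
    (hnn : ¬ H ≤ normalizer (S : Set G)) : Nat.card H = 504 := by
  have : Fact (Nat.Prime 2) := ⟨Nat.prime_two⟩
  have hcent := h.cent56 hSH h56
  have hA' : IsPGroup 2 (S.subgroupOf H) := h.isPGroup.comap_of_injective H.subtype H.subtype_injective
  let T : Sylow 2 H := hA'.toSylow (h.odd_relIndex H hSH)
  have hTm : ∀ x : H, x ∈ (T : Subgroup H) ↔ (x : G) ∈ S := fun x => Iff.rfl
  have hT8 : Nat.card T = 8 := by
    have h1 : Nat.card (S.subgroupOf H) = Nat.card S := Nat.card_congr (subgroupOfEquivOfLe hSH).toEquiv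
    rw [h.card_S] at h1
    exact h1
  have hnc : ¬ IsCyclic (T : Subgroup H) := by
    intro hc
    obtain ⟨g, hg⟩ := hc.exists_ofOrder_eq_natCard
    rw [hT8] at hg
    have h1 : g * g = 1 := by
      apply Subtype.ext
      apply Subtype.ext
      exact h.sq _ ((hTm g).1 g.2)
    have h2 : orderOf g ∣ 2 := orderOf_dvd_of_pow_eq_one (by rw [pow_two, h1])
    rw [hg] at h2
    omega
  have hnT : ¬ (T : Subgroup H).Normal := by
    intro hn
    apply hnn
    intro x hx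
    apply mem_normalizer_fintype
    intro s hs
    have h1 := hn.conj_mem ⟨s, hSH hs⟩ hs ⟨x, hx⟩
    exact h1
  have hC : ∀ t : H, orderOf t = 2 → ∃ k : H, ∀ c ∈ centralizer ({t} : Set H), ((k⁻¹ * c * k : H) : G) ∈ S := by
    intro t ht
    have htp : IsPGroup 2 (zpowers t) := IsPGroup.of_card (n := 1) (by rw [Nat.card_zpowers, ht, pow_one])
    obtain ⟨Q, hQ⟩ := htp.exists_le_sylow
    obtain ⟨k, rfl⟩ := MulAction.exists_smul_eq H T Q
    refine ⟨k, fun c hc => ?_⟩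
    have h1 : k⁻¹ * t * k ∈ (T : Subgroup H) := by
      have h2 := hQ (mem_zpowers t)
      rw [Sylow.coe_subgroup_smul, Subgroup.mem_pointwise_smul_iff_inv_smul_mem] at h2
      have h3 : (MulAut.conj k)⁻¹ • t = k⁻¹ * t * k := by
        rw [← map_inv, MulAut.smul_def, MulAut.conj_apply, inv_inv]
      rwa [h3] at h2
    have h2 : ((k⁻¹ * t * k : H) : G) ≠ 1 := by
      intro h3
      have h4 : k⁻¹ * t * k = 1 := Subtype.ext h3
      have h5 : t = k * (k⁻¹ * t * k) * k⁻¹ := by group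
      rw [h4] at h5
      rw [h5] at ht
      simp at ht
    apply hcent _ ((hTm _).1 h1) h2 _ (k⁻¹ * c * k : H).2
    have h3 : (k⁻¹ * c * k) * (k⁻¹ * t * k) = (k⁻¹ * t * k) * (k⁻¹ * c * k) := by
      have h4 := mem_centralizer_singleton_iff.1 hc
      calc (k⁻¹ * c * k) * (k⁻¹ * t * k) = k⁻¹ * (c * t) * k := by group
        _ = (k⁻¹ * t * k) * (k⁻¹ * c * k) := by rw [h4]; group
    exact congrArg Subtype.val h3
  obtain ⟨F, _, _, hF, ⟨e⟩⟩ := Cfsg.Agent.S1230.result T hnc hnT (by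
    intro t ht
    obtain ⟨k, hk⟩ := hC t ht
    constructor
    · refine ⟨⟨fun a b => Subtype.ext ?_⟩⟩
      have h1 := h.comm (hk a a.2) (hk b b.2)
      have h2 : (k⁻¹ * (a : H) * k) * (k⁻¹ * (b : H) * k) = (k⁻¹ * (b : H) * k) * (k⁻¹ * (a : H) * k) :=
        Subtype.ext h1
      show (a : H) * (b : H) = (b : H) * (a : H)
      calc (a : H) * (b : H) = k * ((k⁻¹ * (a : H) * k) * (k⁻¹ * (b : H) * k)) * k⁻¹ := by group
        _ = (b : H) * (a : H) := by rw [h2]; group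
    · intro c hc
      have h1 := h.sq _ (hk c hc)
      have h2 : (k⁻¹ * c * k) * (k⁻¹ * c * k) = 1 := Subtype.ext h1
      calc c ^ 2 = k * ((k⁻¹ * c * k) * (k⁻¹ * c * k)) * k⁻¹ := by rw [pow_two]; group
        _ = 1 := by rw [h2]; group)
  rw [Nat.card_congr e.toEquiv]
  exact Cfsg.Agent.SmallSimple.PSLFacts.card_psl_two_eight (hF.trans hT8)

/-- `|K ∩ N(S)| = 56` -/
theorem RS.case56 (h : RS S) {K H : Subgroup G} (hSK : S ≤ K) (h56 : Nat.card ↥(K ⊓ normalizer (S : Set G)) = 56)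
    {m : G} (hm : m ∈ normalizer (S : Set G)) (hSH : S ≤ H) (hHK : H ≤ K) (hHK' : cj m H ≤ K) : cj m H = H := by
  have hcent := h.cent56 hSK h56
  have hdvd : Nat.card ↥(H ⊓ normalizer (S : Set G)) ∣ 56 := h56 ▸ card_dvd_of_le (inf_le_inf_right _ hHK)
  rcases h.card_cases hSH with h8 | h24 | h56' | h168
  · obtain ⟨D, cD⟩ := h.exists_cp hSH (h.inf_eq_of_8 hSH h8)
    have hD : D = ⊥ := by
      by_contra hD
      have hV := h.cn_card hD cD.odd (cD.snorm hSH)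
      obtain ⟨s, hs, hs1⟩ := exists_notMem (S := cn S D) (A := ⊥) (by rw [hV, card_bot]; norm_num)
      rw [mem_bot] at hs1
      apply hD
      rw [eq_bot_iff]
      intro x hx
      rw [mem_bot]
      have hxS : x ∈ S := hcent s (mem_cn.1 hs).1 hs1 x (hHK (cD.le hx)) ((mem_cn.1 hs).2 x hx).symm
      exact eq_one_of_odd (odd_of_mem cD.odd hx) (h.sq x hxS)
    have h1 := cD.bot_iff hSH hD
    rw [h1, cj_eq_of_norm hm]
  · rw [h24] at hdvd; omega
  · have hTT : H ⊓ normalizer (S : Set G) = K ⊓ normalizer (S : Set G) :=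
      eq_of_le_of_card_ge (inf_le_inf_right _ hHK) (by rw [h56, h56'])
    by_cases hn : H ≤ normalizer (S : Set G)
    · have h1 : H = K ⊓ normalizer (S : Set G) := by rw [← hTT]; exact (inf_eq_left.2 hn).symm
      have h2 : cj m H ≤ normalizer (S : Set G) := cj_le_of_mem hm hn
      have h3 : cj m H ≤ H := by
        conv_rhs => rw [h1]
        exact le_inf hHK' h2
      exact eq_of_le_of_card_ge h3 (by rw [card_cj])
    · have h1 := h.card504 hSH h56' hn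
      have h2 := h.card504 hSK h56 (fun h3 => hn (hHK.trans h3))
      have h3 : H = K := eq_of_le_of_card_ge hHK (by rw [h1, h2])
      exact eq_of_le_of_card_ge (h3 ▸ hHK') (by rw [card_cj])
  · rw [h168] at hdvd; omega

end Cfsg.Agent.H196.Ron
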