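import Mathlib
import Cfsg.Agent.H196.Ron.Over
import Cfsg.Agent.H408.Pron.Defs

/-!
# S2527, rows `²G₂(q)` and `J₁` (helper196): the abstract theorem
-/

set_option autoImplicit false

namespace Cfsg.Agent.H196.Ron

open Subgroup

universe u

variable {G : Type u} [Group G] [Finite G] {S : Subgroup G}

/-- Burnside: fusion in `K ≥ S` of elements of `S` is controlled by `K ∩ N(S)` -/
theorem RS.fusion (h : RS S) {K : Subgroup G} (hSK : S ≤ K) {a k : G} (ha : a ∈ S) (hk : k ∈ K)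
    (hka : k * a * k⁻¹ ∈ S) : ∃ n ∈ K ⊓ normalizer (S : Set G), n * a * n⁻¹ = k * a * k⁻¹ := by
  have : Fact (Nat.Prime 2) := ⟨Nat.prime_two⟩
  have hA' : IsPGroup 2 (S.subgroupOf K) := h.isPGroup.comap_of_injective K.subtype K.subtype_injective
  let T : Sylow 2 K := hA'.toSylow (h.odd_relIndex K hSK)
  have hTm : ∀ x : K, x ∈ (T : Subgroup K) ↔ (x : G) ∈ S := fun x => Iff.rfl
  have hcomm : IsMulCommutative (T : Subgroup K) :=
    ⟨⟨fun x y => Subtype.ext (Subtype.ext (h.comm x.2 y.2))⟩⟩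
  obtain ⟨n, hn, he⟩ := T.conj_eq_normalizer_conj_of_mem (⟨a, hSK ha⟩ : K) (⟨k, hk⟩ : K)⁻¹ ha
    (by
      rw [inv_inv]
      exact hka)
  refine ⟨((n⁻¹ : K) : G), ⟨(n⁻¹ : K).2, ?_⟩, ?_⟩
  · apply mem_normalizer_fintype
    intro s hs
    have h1 := (mem_normalizer_iff.1 ((normalizer ((T : Subgroup K) : Set K)).inv_mem hn) ⟨s, hSK hs⟩).1 hs
    exact h1
  · have h1 : ((⟨k, hk⟩ : K)⁻¹⁻¹ : G) * a * ((⟨k, hk⟩ : K)⁻¹ : G) = (n⁻¹ : G) * a * n := congrArg (Subtype.val) he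
    have h2 : (n⁻¹ : G) * a * n = k * a * k⁻¹ := by
      rw [← h1, inv_inv]
    show (n⁻¹ : G) * a * ((n : G)⁻¹)⁻¹ = k * a * k⁻¹
    rw [inv_inv]
    exact h2

/-- the Z*-theorem applied to `a` in `K`, if `K ∩ N(S)` centralises `a` -/
theorem RS.zstar (h : RS S) {K : Subgroup G} (hSK : S ≤ K) {a : G} (ha : a ∈ S) (ha1 : a ≠ 1)
    (hc : ∀ n ∈ K ⊓ normalizer (S : Set G), n * a = a * n) :
    ∃ N : Subgroup G, N ≤ K ∧ Odd (Nat.card N) ∧ (∀ x ∈ K, ∀ n ∈ N, x * n * x⁻¹ ∈ N) ∧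
      ∀ x ∈ K, a * x * a⁻¹ * x⁻¹ ∈ N := by
  have : Fact (Nat.Prime 2) := ⟨Nat.prime_two⟩
  -- conjugates of `a` in `S` are `a`
  have h1 : ∀ k ∈ K, k * a * k⁻¹ ∈ S → k * a * k⁻¹ = a := by
    intro k hk hka
    obtain ⟨n, hn, he⟩ := h.fusion hSK ha hk hka
    rw [← he, hc n hn]; group
  rcases Cfsg.Agent.UGT.SL.zstar_sub (X := K) (u := a) (hSK ha) (h.sq a ha) ha1 with ⟨k, hk, hne, hcomm⟩ | h2
  · exfalso
    apply hne
    -- `⟨a, b⟩` is a 2-subgroup of `K`
    set b := k * a * k⁻¹ with hb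
    have hbK : b ∈ K := K.mul_mem (K.mul_mem hk (hSK ha)) (K.inv_mem hk)
    have hbb : b * b = 1 := by
      rw [hb]
      calc k * a * k⁻¹ * (k * a * k⁻¹) = k * (a * a) * k⁻¹ := by group
        _ = 1 := by rw [h.sq a ha]; group
    have haa := h.sq a ha
    -- the subgroup `{1, a, b, ab}` of `K`
    let P : Subgroup K := Subgroup.closure {(⟨a, hSK ha⟩ : K), ⟨b, hbK⟩}
    have hcm : ∀ x ∈ ({(⟨a, hSK ha⟩ : K), ⟨b, hbK⟩} : Set K), ∀ y ∈ ({(⟨a, hSK ha⟩ : K), ⟨b, hbK⟩} : Set K),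
        x * y = y * x := by
      intro x hx y hy
      simp only [Set.mem_insert_iff, Set.mem_singleton_iff] at hx hy
      rcases hx with rfl | rfl <;> rcases hy with rfl | rfl
      · rfl
      · exact Subtype.ext hcomm
      · exact Subtype.ext hcomm.symm
      · rfl
    have hPc : ∀ x ∈ P, ∀ y ∈ P, x * y = y * x := by
      intro x hx y hy
      have h3 : IsMulCommutative P := Subgroup.isMulCommutative_closure hcm
      exact congrArg Subtype.val (h3.is_comm.comm (⟨x, hx⟩ : P) ⟨y, hy⟩)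
    have hP2 : ∀ x ∈ P, x * x = 1 := by
      intro x hx
      induction hx using Subgroup.closure_induction with
      | mem x hx =>
        simp only [Set.mem_insert_iff, Set.mem_singleton_iff] at hx
        rcases hx with rfl | rfl
        · exact Subtype.ext haa
        · exact Subtype.ext hbb
      | one => exact one_mul 1
      | mul x y hx hy hx2 hy2 =>
        calc x * y * (x * y) = x * (y * x) * y := by group
          _ = (x * x) * (y * y) := by rw [hPc y hy x hx]; group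
          _ = 1 := by rw [hx2, hy2, one_mul]
      | inv x hx hx2 => rw [← mul_inv_rev, hx2, inv_one]
    have hPp : IsPGroup 2 P := by
      intro x
      exact ⟨1, Subtype.ext (by rw [pow_one, pow_two]; exact hP2 x x.2)⟩
    obtain ⟨Q, hQ⟩ := hPp.exists_le_sylow
    have hA' : IsPGroup 2 (S.subgroupOf K) := h.isPGroup.comap_of_injective K.subtype K.subtype_injective
    let T : Sylow 2 K := hA'.toSylow (h.odd_relIndex K hSK)
    obtain ⟨g, rfl⟩ := MulAction.exists_smul_eq K T Q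
    have hmem : ∀ x : K, x ∈ P → (g : G)⁻¹ * x * g ∈ S := by
      intro x hx
      have h2 := hQ hx
      rw [Sylow.coe_subgroup_smul, Subgroup.mem_pointwise_smul_iff_inv_smul_mem] at h2
      have h3 : (MulAut.conj g)⁻¹ • x = g⁻¹ * x * g := by
        rw [← map_inv, MulAut.smul_def, MulAut.conj_apply, inv_inv]
      rw [h3] at h2
      exact h2
    have e1 := hmem ⟨a, hSK ha⟩ (Subgroup.subset_closure (Or.inl rfl))
    have e2 := hmem ⟨b, hbK⟩ (Subgroup.subset_closure (Or.inr rfl))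
    have e3 : (g : G)⁻¹ * a * g = a := by
      have := h1 (g : G)⁻¹ (K.inv_mem g.2) (by rw [inv_inv]; exact e1)
      rwa [inv_inv] at this
    have e4 : (g : G)⁻¹ * b * g = a := by
      have h3 : (g : G)⁻¹ * b * g = ((g : G)⁻¹ * k) * a * ((g : G)⁻¹ * k)⁻¹ := by rw [hb]; group
      rw [h3]
      apply h1 _ (K.mul_mem (K.inv_mem g.2) hk)
      rw [← h3]
      exact e2
    have e5 : b = g * ((g : G)⁻¹ * b * g) * (g : G)⁻¹ := by group
    have e6 : a = g * ((g : G)⁻¹ * a * g) * (g : G)⁻¹ := by group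
    rw [e5, e4]
    conv_rhs => rw [e6, e3]
  · exact h2

/-- the normal complement contradiction -/
theorem RS.no_complement (h : RS S) {K P : Subgroup G} (hP : Odd (Nat.card P)) (hSP : ∀ s ∈ S, ∀ p ∈ P, s * p * s⁻¹ ∈ P)
    (hK : K ≤ P ⊔ S) {w : G} (hw : w ∈ K) (hwN : w ∈ normalizer (S : Set G)) (hw3 : orderOf w = 3) : False := by
  obtain ⟨s, hs, hsw⟩ := h.not_cent (w := w) (by rw [hw3]; decide) (fun h1 => by rw [h1, orderOf_one] at hw3; omega)
  apply hsw
  have hSN : S ≤ normalizer (P : Set G) := fun s hs => mem_normalizer_fintype (hSP s hs)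
  have h1 : w ∈ ((P ⊔ S : Subgroup G) : Set G) := hK hw
  rw [Subgroup.coe_mul_of_right_le_normalizer_left P S hSN] at h1
  obtain ⟨p, hp, s0, hs0, rfl⟩ := h1
  have hp' : p ∈ P := hp
  have hs0' : s0 ∈ S := hs0
  simp only at hsw hwN hw ⊢
  -- the commutator lies in `P ∩ S`
  have h2 : (p * s0) * s * (p * s0)⁻¹ * s⁻¹ ∈ S := S.mul_mem (mem_norm hwN hs) (S.inv_mem hs)
  have h3 : (p * s0) * s * (p * s0)⁻¹ * s⁻¹ ∈ P := by
    have h4 : (p * s0) * s * (p * s0)⁻¹ * s⁻¹ = p * (s * p⁻¹ * s⁻¹) := by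
      calc (p * s0) * s * (p * s0)⁻¹ * s⁻¹ = p * (s0 * s * s0⁻¹) * p⁻¹ * s⁻¹ := by group
        _ = p * s * p⁻¹ * s⁻¹ := by rw [h.comm hs0' hs]; group
        _ = p * (s * p⁻¹ * s⁻¹) := by group
    rw [h4]
    exact P.mul_mem hp' (hSP s hs _ (P.inv_mem hp'))
  have h4 := eq_one_of_odd (odd_of_mem hP h3) (h.sq _ h2)
  exact mul_inv_eq_iff_eq_mul.1 (mul_inv_eq_one.1 h4)

/-- two overgroups of `S` with normal complements, one of which is contained in a normal subgroup of odd order -/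
theorem RS.absurd24 (h : RS S) {K H H' D D' N : Subgroup G} (hSH' : S ≤ H') (cD : Cp S H D) (cD' : Cp S H' D')
    (hHK' : H' ≤ K) (hK : K ≤ H ⊔ H') (hN : Odd (Nat.card N))
    (hNn : ∀ x ∈ K, ∀ n ∈ N, x * n * x⁻¹ ∈ N) (hDN : D ≤ N) (hD : D ≠ ⊥) {w : G} (hw : w ∈ K)
    (hwN : w ∈ normalizer (S : Set G)) (hw3 : orderOf w = 3) : False := by
  have hN1 : N ≠ ⊥ := fun h1 => hD (le_bot_iff.1 (h1 ▸ hDN))
  have hSK : S ≤ K := hSH'.trans hHK'
  obtain ⟨Y, hY, hNY, -, -⟩ := h.cn_loc hN1 hN (fun s hs n hn => hNn s (hSK hs) n hn)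
  have hNc : IsCyclic N := isCyclic_of_injective (Subgroup.inclusion hNY) (Subgroup.inclusion_injective hNY)
  -- `D` is normal in `K`
  have hDK : ∀ x ∈ K, ∀ d ∈ D, x * d * x⁻¹ ∈ D := by
    intro x hx d hd
    have h1 : cj x D = D := Cfsg.Agent.OddOrderLocal.CyclicSub.eq_of_card_eq_of_le_cyclic hNc (by
      rintro _ ⟨d, hd, rfl⟩
      exact hNn x hx d (hDN hd)) hDN (card_cj x D)
    rw [← h1]
    exact conj_mem_cj hd
  have hodd := Cfsg.Agent.SylowSp4.AltGen.odd_sup D D' cD.odd cD'.odd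
    (fun e he d hd => hDK e (hHK' (cD'.le he)) d hd)
  refine h.no_complement (P := D ⊔ D') hodd ?_ (hK.trans ?_) hw hwN hw3
  · intro s hs
    have h1 : cj s (D ⊔ D') ≤ D ⊔ D' := by
      rw [cj, Subgroup.map_sup]
      refine sup_le_sup ?_ ?_
      · rintro _ ⟨d, hd, rfl⟩
        exact hDK s (hSK hs) d hd
      · rintro _ ⟨d, hd, rfl⟩
        exact cD'.nrm d hd s (hSH' hs)
    intro p hp
    exact h1 (conj_mem_cj hp)
  · apply sup_le
    · intro x hx
      obtain ⟨o, ho, s, hs, rfl⟩ := cD.mul x hx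
      exact mul_mem (mem_sup_left (mem_sup_left ho)) (mem_sup_right hs)
    · intro x hx
      obtain ⟨o, ho, s, hs, rfl⟩ := cD'.mul x hx
      exact mul_mem (mem_sup_left (mem_sup_right ho)) (mem_sup_right hs)

/-- `|K ∩ N(S)| = 24` -/
theorem RS.case24 (h : RS S) {K H : Subgroup G} (hSK : S ≤ K) (h24 : Nat.card ↥(K ⊓ normalizer (S : Set G)) = 24)
    {m : G} (hm : m ∈ normalizer (S : Set G)) (hmK : m ∉ K) (hSH : S ≤ H) (hHK : H ≤ K) (hHK' : cj m H ≤ K)
    (hK : K ≤ H ⊔ cj m H) : ∃ x ∈ K, cj m H = cj x H := by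
  have : Fact (Nat.Prime 3) := ⟨by norm_num⟩
  have hdvd : Nat.card ↥(H ⊓ normalizer (S : Set G)) ∣ 24 := h24 ▸ card_dvd_of_le (inf_le_inf_right _ hHK)
  have hS' : S ≤ cj m H := by
    have := cj_mono (m := m) hSH
    rwa [cj_eq_of_norm hm] at this
  rcases h.card_cases hSH with h8 | h24' | h56' | h168
  · obtain ⟨w, hw, hw3⟩ := exists_order 3 (T := K ⊓ normalizer (S : Set G)) (by rw [h24]; norm_num)
    obtain ⟨a, ha, ha1, hwa, hfix⟩ := h.fix3 hw.2 hw3
    -- `K ∩ N(S)` centralises `a`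
    have hTa : ∀ n ∈ K ⊓ normalizer (S : Set G), n * a = a * n := by
      have h1 : 8 ∣ Nat.card ↥((K ⊓ normalizer (S : Set G)) ⊓ centralizer ({a} : Set G)) := by
        rw [← h.card_S]
        exact card_dvd_of_le (le_inf (le_inf hSK le_normalizer)
          (fun s hs => mem_centralizer_singleton_iff.2 (h.comm hs ha)))
      have h2 : 3 ∣ Nat.card ↥((K ⊓ normalizer (S : Set G)) ⊓ centralizer ({a} : Set G)) := by
        rw [← hw3]
        exact Subgroup.orderOf_dvd_natCard _ ⟨hw, mem_centralizer_singleton_iff.2 hwa⟩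
      have h3 : Nat.card ↥((K ⊓ normalizer (S : Set G)) ⊓ centralizer ({a} : Set G)) ∣ 24 :=
        h24 ▸ card_dvd_of_le inf_le_left
      have h4 : Nat.card ↥((K ⊓ normalizer (S : Set G)) ⊓ centralizer ({a} : Set G)) = 24 := by
        apply Nat.dvd_antisymm h3
        exact (by norm_num : Nat.Coprime 8 3).mul_dvd_of_dvd_of_dvd h1 h2
      have h5 : (K ⊓ normalizer (S : Set G)) ⊓ centralizer ({a} : Set G) = K ⊓ normalizer (S : Set G) :=
        eq_of_le_of_card_ge inf_le_left (by rw [h4, h24])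
      intro n hn
      rw [← h5] at hn
      exact mem_centralizer_singleton_iff.1 hn.2
    obtain ⟨N, hNK, hNo, hNn, hNc⟩ := h.zstar hSK ha ha1 hTa
    obtain ⟨D, cD⟩ := h.exists_cp hSH (h.inf_eq_of_8 hSH h8)
    have cD' := cD.cj hm
    by_cases hD : D = ⊥
    · refine ⟨1, K.one_mem, ?_⟩
      have h1 := cD.bot_iff hSH hD
      rw [h1, cj_one, cj_eq_of_norm hm]
    have hD' : cj m D ≠ ⊥ := by
      intro h1
      apply hD
      rw [← card_eq_one, ← card_cj m D, h1, card_bot]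
    have hV := h.cn_card hD cD.odd (cD.snorm hSH)
    have hV' := h.cn_card hD' cD'.odd (cD'.snorm hS')
    -- the key property
    have key : ∀ D1 : Subgroup G, D1 ≤ K → D1 ≠ ⊥ → Odd (Nat.card D1) → (∀ s ∈ S, ∀ x ∈ D1, s * x * s⁻¹ ∈ D1) →
        a ∉ cn S D1 → D1 ≤ N ∧ cn S D1 = cn S N := by
      intro D1 hD1K hD1 hD1o hD1n haD1
      obtain ⟨Y, -, -, -, hinv⟩ := h.cn_loc hD1 hD1o hD1n
      have h1 : D1 ≤ N := by
        intro d hd
        have h2 := hinv a ha haD1 d hd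
        have h3 := hNc d (hD1K hd)
        rw [h2] at h3
        -- `d⁻² ∈ N`
        obtain ⟨k, hk⟩ := odd_of_mem hD1o hd
        have h4 : d ^ (2 * k + 1) = 1 := by rw [← hk]; exact pow_orderOf_eq_one d
        have h5 : (d⁻¹ * d⁻¹) ^ k = d := by
          have h6 : d⁻¹ * d⁻¹ = (d ^ 2)⁻¹ := by rw [pow_two, mul_inv_rev]
          rw [h6, inv_pow, ← pow_mul, inv_eq_iff_mul_eq_one, ← pow_succ, h4]
        rw [← h5]
        exact N.pow_mem h3 k
      have hN1 : N ≠ ⊥ := fun h2 => hD1 (le_bot_iff.1 (h2 ▸ h1))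
      have h2 := h.cn_card hN1 hNo (fun s hs n hn => hNn s (hSK hs) n hn)
      have h3 := h.cn_card hD1 hD1o hD1n
      exact ⟨h1, (eq_of_le_of_card_ge (cn_anti h1) (by rw [h2, h3])).symm⟩
    have hDK : D ≤ K := cD.le.trans hHK
    have hDK' : cj m D ≤ K := cD'.le.trans hHK'
    by_cases haV : a ∈ cn S D
    · by_cases haV' : a ∈ cn S (cj m D)
      · -- both contain `a`
        obtain ⟨i, hi⟩ := h.conj_of_mem hw.2 hw3 hfix hwa ha1 inf_le_left hV haV inf_le_left hV' haV'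
        have hwiN : w ^ i ∈ normalizer (S : Set G) := pow_mem hw.2 i
        have cD1 := cD.cj hwiN
        have hS1 : S ≤ cj (w ^ i) H := by
          have := cj_mono (m := w ^ i) hSH
          rwa [cj_eq_of_norm hwiN] at this
        have h1 : cn S (cj (w ^ i) D) = cn S (cj m D) := by
          rw [mem_cn_cj hwiN]
          exact hi
        have h2 : cj (w ^ i) D = cj m D := by
          refine h.eq_of_cn hD' cD'.odd (cD'.snorm hS') ?_ h1.ge
          rw [card_cj, card_cj]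
        rw [h2] at cD1
        exact ⟨w ^ i, K.pow_mem hw.1 i, cD'.eq cD1 hS' hS1⟩
      · exfalso
        obtain ⟨h1, -⟩ := key _ hDK' hD' cD'.odd (cD'.snorm hS') haV'
        exact h.absurd24 hSH cD' cD hHK (by rw [sup_comm]; exact hK) hNo hNn h1 hD' hw.1 hw.2 hw3
    · obtain ⟨h1, h2⟩ := key _ hDK hD cD.odd (cD.snorm hSH) haV
      by_cases haV' : a ∈ cn S (cj m D)
      · exfalso
        exact h.absurd24 hS' cD cD' hHK' hK hNo hNn h1 hD hw.1 hw.2 hw3
      · obtain ⟨-, h3⟩ := key _ hDK' hD' cD'.odd (cD'.snorm hS') haV'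
        have h4 : cj m D = D := h.eq_of_cn hD cD.odd (cD.snorm hSH) (card_cj m D) (h2.trans h3.symm).le
        rw [h4] at cD'
        refine ⟨1, K.one_mem, ?_⟩
        rw [cj_one]
        exact cD'.eq cD hS' hSH
  · -- `H ∩ N(S) = K ∩ N(S)` is normalised by `m`
    exfalso
    apply hmK
    have hTT : H ⊓ normalizer (S : Set G) = K ⊓ normalizer (S : Set G) :=
      eq_of_le_of_card_ge (inf_le_inf_right _ hHK) (by rw [h24, h24'])
    refine (h.mem_of_24 (T := K ⊓ normalizer (S : Set G)) inf_le_right (le_inf hSK le_normalizer) h24 hm ?_).1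
    intro t ht
    rw [← hTT] at ht
    exact ⟨hHK' (conj_mem_cj ht.1), (normalizer (S : Set G)).mul_mem
      ((normalizer (S : Set G)).mul_mem hm ht.2) ((normalizer (S : Set G)).inv_mem hm)⟩
  · rw [h56'] at hdvd; omega
  · rw [h168] at hdvd; omega

/-- **The abstract theorem** -/
theorem RS.main (h : RS S) {H : Subgroup G} (hSH : S ≤ H) {m : G} (hm : m ∈ normalizer (S : Set G)) :
    ∃ x ∈ H ⊔ cj m H, cj m H = cj x H := by
  by_cases hmK : m ∈ H ⊔ cj m H
  · exact ⟨m, hmK, rfl⟩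
  have hHK : H ≤ H ⊔ cj m H := le_sup_left
  have hHK' : cj m H ≤ H ⊔ cj m H := le_sup_right
  have hSK : S ≤ H ⊔ cj m H := hSH.trans hHK
  rcases h.card_cases hSK with h8 | h24 | h56 | h168
  · exact ⟨1, one_mem _, by rw [cj_one]; exact h.case8 hSK h8 hm hSH hHK hHK'⟩
  · exact h.case24 hSK h24 hm hmK hSH hHK hHK' le_rfl
  · exact ⟨1, one_mem _, by rw [cj_one]; exact h.case56 hSK h56 hm hSH hHK hHK'⟩
  · exfalso
    apply hmK
    have h1 : (H ⊔ cj m H) ⊓ normalizer (S : Set G) = normalizer (S : Set G) :=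
      eq_of_le_of_card_ge inf_le_right (by rw [h168, h.card_N])
    exact (inf_eq_right.1 h1) hm

/-- pronormality from `RS` -/
theorem po_of_rs (P : Sylow 2 G) (h : RS (P : Subgroup G)) : Cfsg.Agent.H408.Pron.PO G :=
  Cfsg.Agent.H408.Pron.PO.of_sylow P fun _ hH _ hm => h.main hH hm

end Cfsg.Agent.H196.Ron
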