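import Mathlib
import Cfsg.Agent.H196.Ron.Main
import Cfsg.Agent.H413.JOneLocal

/-!
# S2527, the row `J₁` (helper196)
-/

set_option autoImplicit false

namespace Cfsg.Agent.H196.Ron

open Subgroup
open Cfsg.Agent.SporadicB.J1Local

universe u

/-- a group of type `J₁` satisfies `RS` -/
theorem rs_of_fus {G : Type u} [Group G] [Finite G] (hF : Defs.Fus G)
    (h3 : ∀ w : G, orderOf w = 3 → Nat.card (centralizer ({w} : Set G)) = 30)
    (h5 : ∀ w : G, orderOf w = 5 → Nat.card (centralizer ({w} : Set G)) = 30) (S : Sylow 2 G) :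
    RS (S : Subgroup G) := by
  have : Fact (Nat.Prime 2) := ⟨Nat.prime_two⟩
  have h120 : ∀ v : G, orderOf v = 2 → Nat.card (centralizer ({v} : Set G)) = 120 := by
    intro v hv
    obtain ⟨e⟩ := hF.cent v hv
    rw [Nat.card_congr e.toEquiv, Nat.card_prod, Cfsg.Agent.Lib.VonDyck.card_alternating5,
      Nat.card_congr Multiplicative.toAdd, Nat.card_zmod]
  -- elements of odd order commuting with a four-group
  have key : ∀ V : Subgroup G, V ≤ S → Nat.card V = 4 → ∀ g : G, (∀ v ∈ V, v * g = g * v) → Odd (orderOf g) →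
      g = 1 := by
    intro V hVS hV4 g hg ho
    by_contra hg1
    obtain ⟨p, hp, hpd⟩ := Nat.exists_prime_and_dvd (fun h1 => hg1 (orderOf_eq_one_iff.1 h1))
    have : Fact p.Prime := ⟨hp⟩
    obtain ⟨k, hk⟩ := hpd
    have hk0 : k ≠ 0 := by
      rintro rfl
      have := orderOf_pos g
      omega
    have hy : orderOf (g ^ k) = p := by
      rw [orderOf_pow_of_dvd hk0 (by rw [hk]; exact dvd_mul_left _ _), hk, Nat.mul_div_cancel _ (Nat.pos_of_ne_zero hk0)]
    have hyV : ∀ v ∈ V, v * g ^ k = g ^ k * v := fun v hv => ((show Commute v g from hg v hv).pow_right k).eq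
    -- an involution of `V`
    obtain ⟨v, hv, hv1⟩ : ∃ v ∈ V, v ≠ 1 := by
      by_contra hcon
      push Not at hcon
      have h1 : V = ⊥ := by
        rw [eq_bot_iff]
        intro x hx
        rw [mem_bot]
        exact hcon x hx
      rw [h1, card_bot] at hV4
      omega
    have hv2 : orderOf v = 2 := orderOf_eq_prime (by rw [pow_two]; exact hF.sq S v (hVS hv)) hv1
    have hpd : p ∣ 120 := by
      rw [← h120 v hv2, ← hy]
      exact Subgroup.orderOf_dvd_natCard _ (mem_centralizer_singleton_iff.2 (hyV v hv).symm)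
    have hp2 : p ≠ 2 := by
      rintro rfl
      have h1 : Odd (2 : ℕ) := by
        rw [hk] at ho
        exact (Nat.odd_mul.1 ho).1
      exact absurd h1 (by decide)
    have h4 : 4 ∣ Nat.card (centralizer ({g ^ k} : Set G)) := by
      rw [← hV4]
      exact card_dvd_of_le (fun x hx => mem_centralizer_singleton_iff.2 (hyV x hx))
    have hp35 : p = 3 ∨ p = 5 := by
      have h1 : p ∣ 2 ^ 3 * (3 * 5) := by norm_num; exact hpd
      rcases hp.dvd_mul.1 h1 with h2 | h2
      · exact absurd ((Nat.prime_dvd_prime_iff_eq hp Nat.prime_two).1 (hp.dvd_of_dvd_pow h2)) hp2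
      rcases hp.dvd_mul.1 h2 with h3 | h3
      · exact Or.inl ((Nat.prime_dvd_prime_iff_eq hp Nat.prime_three).1 h3)
      · exact Or.inr ((Nat.prime_dvd_prime_iff_eq hp Nat.prime_five).1 h3)
    rcases hp35 with rfl | rfl
    · rw [h3 _ hy] at h4; omega
    · rw [h5 _ hy] at h4; omega
  have hcomm : ∀ x ∈ (S : Subgroup G), ∀ y ∈ (S : Subgroup G), x * y = y * x := by
    intro x hx y hy
    have h1 := hF.sq S _ (S.mul_mem hx hy)
    have hx' : x⁻¹ = x := inv_eq_of_mul_eq_one_left (hF.sq S x hx)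
    have hy' : y⁻¹ = y := inv_eq_of_mul_eq_one_left (hF.sq S y hy)
    have h2 : (x * y)⁻¹ = x * y := inv_eq_of_mul_eq_one_left h1
    rw [← h2, mul_inv_rev, hx', hy']
  -- a four-subgroup
  obtain ⟨V, hVS, hV4⟩ : ∃ V : Subgroup G, V ≤ S ∧ Nat.card V = 4 := by
    obtain ⟨V, hV⟩ := Sylow.exists_subgroup_card_pow_prime 2 (G := (S : Subgroup G)) (n := 2)
      (by rw [hF.card8 S]; norm_num)
    refine ⟨V.map (S : Subgroup G).subtype, map_subtype_le _, ?_⟩
    rw [card_map_of_injective (S : Subgroup G).subtype_injective, hV]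
    norm_num
  refine
    { card_S := hF.card8 S
      sq := hF.sq S
      odd := Nat.not_even_iff_odd.1 (fun h => S.not_dvd_index h.two_dvd)
      card_N := hF.norm168 S
      cent := ?_
      loc := ?_ }
  · -- `C(V)` is a 2-group
    have hSV : (S : Subgroup G) ≤ centralizer (V : Set G) := by
      intro x hx
      rw [mem_centralizer_iff]
      intro v hv
      exact hcomm v (hVS hv) x hx
    have hp : IsPGroup 2 ↥(centralizer (V : Set G)) := by
      rw [IsPGroup.iff_card]
      by_contra hcon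
      obtain ⟨q, hq, hqd, hq2⟩ : ∃ q : ℕ, q.Prime ∧ q ∣ Nat.card ↥(centralizer (V : Set G)) ∧ q ≠ 2 := by
        by_contra h
        push Not at h
        apply hcon
        exact ⟨_, Nat.eq_prime_pow_of_unique_prime_dvd Nat.card_pos.ne' (fun {d} hd hdd => h d hd hdd)⟩
      have : Fact q.Prime := ⟨hq⟩
      obtain ⟨y, hy⟩ := exists_prime_orderOf_dvd_card' q hqd
      have hy' : orderOf (y : G) = q := by rw [Subgroup.orderOf_coe, hy]
      have h1 := key V hVS hV4 y (fun v hv => mem_centralizer_iff.1 y.2 v hv)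
        (by rw [hy']; exact hq.odd_of_ne_two hq2)
      rw [h1, orderOf_one] at hy'
      exact hq.one_lt.ne hy'
    intro g hg
    have h1 : (centralizer (V : Set G)) = S := S.is_maximal' hp hSV
    rw [← h1, mem_centralizer_iff]
    intro v hv
    exact (hg v (hVS hv)).symm
  · intro V hVS hV4
    refine ⟨⊥, inferInstance, by rw [card_bot]; exact odd_one, ?_, ?_, ?_, ?_⟩
    · intro y hy v _
      rw [mem_bot] at hy
      rw [hy, mul_one, one_mul]
    · intro s _ _ y hy
      rw [mem_bot] at hy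
      rw [hy]; group
    · intro g hg ho
      rw [mem_bot]
      exact key V hVS hV4 g hg ho
    · intro y hy hy1
      exact absurd (mem_bot.1 hy) hy1

theorem po_J1 : Cfsg.Agent.H408.Pron.PO Cfsg.Spor.J1 := by
  have : IsSimpleGroup Cfsg.Spor.J1 := Cfsg.Agent.SporadicB.J1.Main.isJ1.1
  obtain ⟨e⟩ := Cfsg.Agent.H413.JOneLocal.cent_equiv
  have hF := Fusion.fus_of_simple _ Cfsg.Agent.H413.JOneLocal.twoCentral e
  have hL := Cfsg.Agent.H413.JOneLocal.isLocal
  exact po_of_rs default (rs_of_fus hF hL.cent3 hL.cent5 default)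

/-- **S2527, the row `J₁`.** -/
theorem po_j1 {K : Type u} [Group K] [Finite K] [IsSimpleGroup K] (h : Cfsg.Spor.IsoJ1 K) :
    Cfsg.Agent.H408.Pron.PO K := by
  obtain ⟨e⟩ := h
  exact Cfsg.Agent.H408.Pron.PO.congr e.symm po_J1

end Cfsg.Agent.H196.Ron
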