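import Mathlib
import Cfsg.Agent.H196.Ron.J1
import Cfsg.Agent.Ree.RhoType
import Cfsg.Agent.Ree.PSLDihMain
import Cfsg.Agent.S1073
import Cfsg.Agent.S1152
import Cfsg.Agent.S1157
import Cfsg.Agent.CpAutRee.Ree

/-!
# S2527, the row `²G₂(q)` (helper196)
-/

set_option autoImplicit false

namespace Cfsg.Agent.H196.Ron

open Subgroup
open Cfsg.Agent.Ree
open Cfsg.Agent.Ree.LocalSetup (Comp Local)

universe u

variable {G : Type u} [Group G] [Finite G]

theorem three_le_card {V : Subgroup G} {s t : G} (hs : s ∈ V) (ht : t ∈ V)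
    (hs1 : s ≠ 1) (ht1 : t ≠ 1) (hst : s ≠ t) : 3 ≤ Nat.card V := by
  classical
  have h4 : ({1, s, t} : Finset G).card = 3 := by
    rw [Finset.card_insert_of_notMem, Finset.card_pair hst]
    simp only [Finset.mem_insert, Finset.mem_singleton, not_or]
    exact ⟨hs1.symm, ht1.symm⟩
  rw [← h4, ← Set.ncard_coe_finset]
  have h5 : ((({1, s, t} : Finset G) : Set G)) ⊆ (V : Set G) := by
    intro x hx
    simp only [Finset.coe_insert, Finset.coe_singleton, Set.mem_insert_iff, Set.mem_singleton_iff] at hx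
    rcases hx with rfl | rfl | rfl
    · exact V.one_mem
    · exact hs
    · exact ht
  exact Set.ncard_le_ncard h5 (Set.toFinite _)

omit [Finite G] in
theorem comm_of_exp {V : Subgroup G} (h : ∀ v ∈ V, v * v = 1) {x y : G} (hx : x ∈ V) (hy : y ∈ V) : x * y = y * x := by
  have h1 := sq_inv (h _ (V.mul_mem hx hy))
  rw [mul_inv_rev, sq_inv (h x hx), sq_inv (h y hy)] at h1
  exact h1.symm

/-- an involution of `U ∩ L` -/
theorem exists_w {F : Type*} [Field F] {t : G} {L : Subgroup G} (hL : Comp F t L) {U : Subgroup G}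
    (hU4 : Nat.card U = 4) (hUe : ∀ v ∈ U, v * v = 1) (htU : t ∈ U) : ∃ w ∈ U, w ∈ L ∧ w ≠ 1 := by
  obtain ⟨x, hx, hxt⟩ := exists_notMem (S := U) (A := zpowers t) (by
    rw [hU4, Nat.card_zpowers]
    have : orderOf t ∣ 2 := orderOf_dvd_of_pow_eq_one (by rw [pow_two, hUe t htU])
    exact (Nat.le_of_dvd (by norm_num) this).trans_lt (by norm_num))
  have hx1 : x ≠ 1 := fun h => hxt (h ▸ one_mem _)
  have hxt' : x ≠ t := fun h => hxt (h ▸ mem_zpowers _)
  rcases hL.cover x (mem_centralizer_singleton_iff.2 (comm_of_exp hUe hx htU)) with h | h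
  · exact ⟨x, hx, h, hx1⟩
  · refine ⟨t * x, U.mul_mem htU hx, h, fun h1 => hxt' ?_⟩
    rw [← sq_inv (hUe t htU)]
    exact (eq_inv_of_mul_eq_one_right h1)

/-- four-subgroups are conjugate -/
theorem exists_conj_klein {F : Type*} [Field F] [Fintype F] (hodd : Odd (Fintype.card F)) {t : G}
    (ht : orderOf t = 2) {L : Subgroup G} (hL : Comp F t L)
    (hconj : ∀ u v : G, orderOf u = 2 → orderOf v = 2 → IsConj u v) {V V1 : Subgroup G} (hV4 : Nat.card V = 4)
    (hVe : ∀ v ∈ V, v * v = 1) (htV : t ∈ V) (hV14 : Nat.card V1 = 4) (hV1e : ∀ v ∈ V1, v * v = 1) :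
    ∃ g : G, cj g V1 = V := by
  have ht1 : t ≠ 1 := by rintro rfl; rw [orderOf_one] at ht; omega
  obtain ⟨a, ha, ha1⟩ := exists_notMem (S := V1) (A := ⊥) (by rw [hV14, card_bot]; norm_num)
  rw [mem_bot] at ha1
  obtain ⟨c, hc⟩ := isConj_iff.1 (hconj a t (orderOf_eq_prime (by rw [pow_two]; exact hV1e a ha) ha1) ht)
  have h2e : ∀ v ∈ cj c V1, v * v = 1 := by
    rintro _ ⟨x, hx, rfl⟩
    show c * x * c⁻¹ * (c * x * c⁻¹) = 1
    calc c * x * c⁻¹ * (c * x * c⁻¹) = c * (x * x) * c⁻¹ := by group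
      _ = 1 := by rw [hV1e x hx]; group
  have htc : t ∈ cj c V1 := hc ▸ conj_mem_cj ha
  obtain ⟨w2, hw2, hw2L, hw21⟩ := exists_w hL (by rw [card_cj, hV14]) h2e htc
  obtain ⟨w, hw, hwL, hw1⟩ := exists_w hL hV4 hVe htV
  obtain ⟨f⟩ := hL.iso
  have hof : ∀ x : L, (x : G) * x = 1 → (x : G) ≠ 1 → orderOf (f x) = 2 := by
    intro x hx hx1
    rw [MulEquiv.orderOf_eq]
    apply orderOf_eq_prime
    · rw [pow_two]; exact Subtype.ext hx
    · intro h; exact hx1 (congrArg Subtype.val h)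
  obtain ⟨l, hl⟩ := isConj_iff.1 (Cfsg.Agent.ClassicalGeometry.SLTwoFour.psl_isConj hodd _ _
    (hof ⟨w2, hw2L⟩ (h2e w2 hw2) hw21) (hof ⟨w, hwL⟩ (hVe w hw) hw1))
  have hl' : ((f.symm l : L) : G) * w2 * ((f.symm l : L) : G)⁻¹ = w := by
    have h1 : f.symm l * ⟨w2, hw2L⟩ * (f.symm l)⁻¹ = ⟨w, hwL⟩ := by
      apply f.injective
      rw [map_mul, map_mul, map_inv, f.apply_symm_apply]
      exact hl
    exact congrArg Subtype.val h1
  set b : G := ((f.symm l : L) : G) with hb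
  have hbt : b * t = t * b := mem_centralizer_singleton_iff.1 (hL.le (f.symm l).2)
  refine ⟨b * c, ?_⟩
  have h1 : cj (b * c) V1 = cj b (cj c V1) := by
    rw [cj, cj, cj, Subgroup.map_map]
    congr 1
    ext x
    show b * c * x * (b * c)⁻¹ = b * (c * x * c⁻¹) * b⁻¹
    group
  have htU : t ∈ cj (b * c) V1 := by
    rw [h1]
    have h2 : b * t * b⁻¹ = t := by rw [hbt]; group
    have h3 := conj_mem_cj (m := b) htc
    rwa [h2] at h3
  have hwU : w ∈ cj (b * c) V1 := by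
    rw [h1, ← hl']
    exact conj_mem_cj hw2
  have h3 : 3 ≤ Nat.card ↥(V ⊓ cj (b * c) V1) :=
    three_le_card (s := t) (t := w) ⟨htV, htU⟩ ⟨hw, hwU⟩ ht1 hw1 (fun h => hL.not_mem (h ▸ hwL))
  have hU4 : Nat.card ↥(cj (b * c) V1) = 4 := by rw [card_cj, hV14]
  have h4 : Nat.card ↥(V ⊓ cj (b * c) V1) = 4 := by
    have h5 : Nat.card ↥(V ⊓ cj (b * c) V1) ∣ 4 := hV4 ▸ card_dvd_of_le inf_le_left
    have h6 := Nat.le_of_dvd (by norm_num) h5
    interval_cases h : Nat.card ↥(V ⊓ cj (b * c) V1) <;> omega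
  have h5 : V ⊓ cj (b * c) V1 = V := eq_of_le_of_card_ge inf_le_left (by rw [h4, hV4])
  have h6 : V ⊓ cj (b * c) V1 = cj (b * c) V1 := eq_of_le_of_card_ge inf_le_right (by rw [h4, hU4])
  exact h6.symm.trans h5

/-- `RS` from the local structure -/
theorem rs_of_local {F : Type*} [Field F] [Fintype F] {t s ρ : G} {S : Sylow 2 G}
    {L Ls V Y : Subgroup G} {m : ℕ} {ε : ℤ} (h : Local F t s ρ S L Ls V Y m ε) (hm : 1 < m)
    (hodd : Odd (Fintype.card F))
    (hc : centralizer ((S : Subgroup G) : Set G) ≤ S)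
    (hN : Nat.card (normalizer ((S : Subgroup G) : Set G)) = 168) : RS (S : Subgroup G) := by
  have : Fact (Nat.Prime 2) := ⟨Nat.prime_two⟩
  have hcenty := (RhoType.good h hm).cent_y
  have hYo : Odd (Nat.card Y) := by rw [h.Y_card]; exact h.odd_m
  have hVY : ∀ v ∈ V, ∀ y ∈ Y, v * y = y * v := fun v hv y hy =>
    mem_centralizer_iff.1 (h.Y_cent hy) v hv
  have hYab : ∀ x ∈ Y, ∀ y ∈ Y, x * y = y * x := by
    intro x hx y hy
    have := h.Y_cyclic.isMulCommutative.is_comm.comm (⟨x, hx⟩ : Y) ⟨y, hy⟩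
    exact congrArg Subtype.val this
  have hss : s * s = 1 := by rw [← pow_two, ← h.ord_s]; exact pow_orderOf_eq_one s
  have hsi := sq_inv hss
  -- products `v z`
  have split1 : ∀ v ∈ V, ∀ z ∈ Y, (v * z) * (v * z) = 1 → z = 1 := by
    intro v hv z hz h2
    have h3 : v * z * (v * z) = z * z := by
      calc v * z * (v * z) = v * (z * v) * z := by group
        _ = (v * v) * (z * z) := by rw [← hVY v hv z hz]; group
        _ = z * z := by rw [h.V_exp v hv, one_mul]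
    rw [h3] at h2
    exact eq_one_of_odd (odd_of_mem hYo hz) h2
  have split2 : ∀ v ∈ V, ∀ z ∈ Y, Odd (orderOf (v * z)) → v = 1 := by
    intro v hv z hz h2
    obtain ⟨k, hk⟩ := h2
    have h3 : (v * z) ^ (2 * k + 1) = 1 := by rw [← hk]; exact pow_orderOf_eq_one _
    have h4 : v ^ (2 * k + 1) = v := by
      rw [pow_succ, pow_mul, pow_two, h.V_exp v hv, one_pow, one_mul]
    rw [(show Commute v z from hVY v hv z hz).mul_pow, h4] at h3
    have h5 : v ∈ Y := by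
      rw [mul_eq_one_iff_eq_inv.1 h3]
      exact Y.inv_mem (Y.pow_mem hz _)
    exact eq_one_of_odd (odd_of_mem hYo h5) (h.V_exp v hv)
  have hsV : ∀ v ∈ V, s * v = v * s := fun v hv => comm_of_exp (h.sylow_exp S) h.s_mem (h.V_le hv)
  have hvzs : ∀ v ∈ V, ∀ z ∈ Y, (v * z * s) * (v * z * s) = 1 := by
    intro v hv z hz
    have h1 : s * z * s = z⁻¹ := by
      have := h.s_inv z hz
      rwa [hsi] at this
    calc (v * z * s) * (v * z * s) = v * z * (s * v) * z * s := by group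
      _ = v * z * v * (s * z * s) := by rw [hsV v hv]; group
      _ = v * (z * v) * z⁻¹ := by rw [h1]; group
      _ = (v * v) := by rw [← hVY v hv z hz]; group
      _ = 1 := h.V_exp v hv
  refine
    { card_S := h.sylow_card S
      sq := h.sylow_exp S
      odd := Nat.not_even_iff_odd.1 (fun h => S.not_dvd_index h.two_dvd)
      card_N := hN
      cent := fun g hg => hc (mem_centralizer_iff.2 fun x hx => (hg x hx).symm)
      loc := ?_ }
  intro V1 hV1S hV14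
  obtain ⟨g, hg⟩ := exists_conj_klein hodd h.ord_t (L := L) ⟨h.L_le, h.t_not_mem, h.cover, h.iso⟩ h.conj h.V_card h.V_exp
    h.t_mem_V hV14 (fun v hv => h.sylow_exp S v (hV1S hv))
  have hV1 : ∀ v ∈ V1, g * v * g⁻¹ ∈ V := fun v hv => hg ▸ conj_mem_cj hv
  have hV1' : ∀ v, g * v * g⁻¹ ∈ V → v ∈ V1 := by
    intro v hv
    rw [← hg, mem_cj] at hv
    have h1 : g⁻¹ * (g * v * g⁻¹) * g = v := by group
    rwa [h1] at hv
  have hY1 : ∀ y, y ∈ cj g⁻¹ Y ↔ g * y * g⁻¹ ∈ Y := by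
    intro y
    rw [mem_cj, inv_inv]
  have hsqg : ∀ x : G, x * x = 1 → (g * x * g⁻¹) * (g * x * g⁻¹) = 1 := by
    intro x hx
    calc g * x * g⁻¹ * (g * x * g⁻¹) = g * (x * x) * g⁻¹ := by group
      _ = 1 := by rw [hx]; group
  have hcg : ∀ x y : G, x * y = y * x → (g * x * g⁻¹) * (g * y * g⁻¹) = (g * y * g⁻¹) * (g * x * g⁻¹) := by
    intro x y hxy
    calc (g * x * g⁻¹) * (g * y * g⁻¹) = g * (x * y) * g⁻¹ := by group
      _ = (g * y * g⁻¹) * (g * x * g⁻¹) := by rw [hxy]; group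
  have hcg' : ∀ x y : G, (g * x * g⁻¹) * (g * y * g⁻¹) = (g * y * g⁻¹) * (g * x * g⁻¹) → x * y = y * x := by
    intro x y hxy
    calc x * y = g⁻¹ * ((g * x * g⁻¹) * (g * y * g⁻¹)) * g := by group
      _ = y * x := by rw [hxy]; group
  -- elements commuting with `V1`
  have hcent : ∀ x : G, (∀ v ∈ V1, v * x = x * v) → g * x * g⁻¹ ∈ centralizer (V : Set G) := by
    intro x hx
    rw [mem_centralizer_iff]
    intro v hv
    have h1 : g⁻¹ * v * g ∈ V1 := by
      apply hV1'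
      have h2 : g * (g⁻¹ * v * g) * g⁻¹ = v := by group
      rw [h2]; exact hv
    have h2 := hcg _ _ (hx _ h1)
    have h3 : g * (g⁻¹ * v * g) * g⁻¹ = v := by group
    rwa [h3] at h2
  refine ⟨cj g⁻¹ Y, ?_, ?_, ?_, ?_, ?_, ?_⟩
  · exact (Y.equivMapOfInjective _ (MulAut.conj g⁻¹ : G ≃* G).injective).isCyclic.1 h.Y_cyclic
  · rw [card_cj]; exact hYo
  · intro y hy v hv
    exact hcg' _ _ (hVY _ (hV1 v hv) _ ((hY1 y).1 hy))
  · intro x hx hxV y hy
    have hx2 := h.sylow_exp S x hx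
    have hcx := hcent x (fun v hv => comm_of_exp (h.sylow_exp S) (hV1S hv) hx)
    obtain ⟨v, hv, z, hz, he | he⟩ := h.mem_cent_V _ hcx
    · exfalso
      apply hxV
      apply hV1'
      have h1 := hsqg x hx2
      rw [he] at h1
      rw [he, split1 v hv z hz h1, mul_one]
      exact hv
    · have hyY := (hY1 y).1 hy
      -- `g x g⁻¹` inverts
      have h1 : (g * x * g⁻¹) * (g * y * g⁻¹) * (g * x * g⁻¹)⁻¹ = (g * y * g⁻¹)⁻¹ := by
        rw [he]
        calc v * z * s * (g * y * g⁻¹) * (v * z * s)⁻¹ = v * z * (s * (g * y * g⁻¹) * s⁻¹) * z⁻¹ * v⁻¹ := by group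
          _ = v * (z * (g * y * g⁻¹)⁻¹) * z⁻¹ * v⁻¹ := by rw [h.s_inv _ hyY]; group
          _ = (v * (g * y * g⁻¹)⁻¹) * v⁻¹ := by rw [hYab z hz _ (Y.inv_mem hyY)]; group
          _ = (g * y * g⁻¹)⁻¹ := by rw [hVY v hv _ (Y.inv_mem hyY)]; group
      calc x * y * x⁻¹ = g⁻¹ * ((g * x * g⁻¹) * (g * y * g⁻¹) * (g * x * g⁻¹)⁻¹) * g := by group
        _ = y⁻¹ := by rw [h1]; group
  · intro x hx ho
    rw [hY1]
    have ho' : Odd (orderOf (g * x * g⁻¹)) := by
      have h1 : orderOf (g * x * g⁻¹) = orderOf x :=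
        orderOf_injective (MulAut.conj g : G ≃* G).toMonoidHom (MulAut.conj g : G ≃* G).injective x
      rwa [h1]
    obtain ⟨v, hv, z, hz, he | he⟩ := h.mem_cent_V _ (hcent x hx)
    · rw [he] at ho' ⊢
      rw [split2 v hv z hz ho', one_mul]
      exact hz
    · rw [he] at ho' ⊢
      rw [eq_one_of_odd ho' (hvzs v hv z hz)]
      exact Y.one_mem
  · intro y hy hy1 x hx
    have hyY := (hY1 y).1 hy
    have hy1' : g * y * g⁻¹ ≠ 1 := fun h1 => hy1 (conj_eq_one_iff.1 h1)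
    have h1 : g * x * g⁻¹ ∈ V ⊔ Y := by
      rw [← hcenty _ hyY hy1', mem_centralizer_singleton_iff]
      exact hcg _ _ hx
    have hYN : Y ≤ normalizer (V : Set G) := by
      intro z hz
      rw [mem_normalizer_iff]
      intro v
      constructor
      · intro hv
        have h2 : z * v * z⁻¹ = v := by rw [← hVY v hv z hz]; group
        rw [h2]; exact hv
      · intro hv
        have h3 := hVY _ hv z hz
        have h2 : z * v * z⁻¹ = v := by
          calc z * v * z⁻¹ = z⁻¹ * (z * (z * v * z⁻¹)) := by group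
            _ = z⁻¹ * ((z * v * z⁻¹) * z) := by rw [h3]
            _ = v := by group
        rwa [h2] at hv
    have h2 : g * x * g⁻¹ ∈ ((V ⊔ Y : Subgroup G) : Set G) := h1
    rw [Subgroup.coe_mul_of_right_le_normalizer_left V Y hYN] at h2
    obtain ⟨v, hv, z, hz, he⟩ := h2
    refine ⟨g⁻¹ * v * g, ?_, g⁻¹ * z * g, ?_, ?_⟩
    · apply hV1'
      have h3 : g * (g⁻¹ * v * g) * g⁻¹ = v := by group
      rw [h3]; exact hv
    · rw [hY1]
      have h3 : g * (g⁻¹ * z * g) * g⁻¹ = z := by group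
      rw [h3]; exact hz
    · have he' : v * z = g * x * g⁻¹ := he
      calc x = g⁻¹ * (g * x * g⁻¹) * g := by group
        _ = g⁻¹ * v * g * (g⁻¹ * z * g) := by rw [← he']; group

theorem po_twisted {K : Type} [Field K] [Fintype K] {m : ℕ} (hm : 1 ≤ m)
    (hK : Fintype.card K = 3 ^ (2 * m + 1)) : Cfsg.Agent.H408.Pron.PO ↥(Cfsg.Lie.twistedG2 K (3 ^ m)) := by
  classical
  have h2 : Fact (Nat.Prime 2) := ⟨Nat.prime_two⟩
  obtain ⟨hsimp, hc⟩ := Cfsg.Agent.S1073.result hm hK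
  have hna : ∃ a b : ↥(Cfsg.Lie.twistedG2 K (3 ^ m)), a * b ≠ b * a := by
    by_contra hcon
    push Not at hcon
    exact hc ⟨⟨hcon⟩⟩
  obtain ⟨a, haH, ha1, ha2⟩ := Cfsg.Agent.S1157.exists_involution hK
  obtain ⟨⟨e⟩, hS⟩ := Cfsg.Agent.S1152.result hK a haH ha1 ha2
  have hao : orderOf a = 2 := orderOf_eq_prime (by rw [sq, ha2]) ha1
  have hq8 := Cfsg.Agent.CpAutRee.Ree.pow_mod_eight m
  have hmod : Fintype.card K % 8 = 3 ∨ Fintype.card K % 8 = 5 := Or.inl (by rw [hK, hq8])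
  have hq27 : 27 ≤ Fintype.card K := by
    rw [hK]
    calc 27 = 3 ^ 3 := by norm_num
      _ ≤ 3 ^ (2 * m + 1) := Nat.pow_le_pow_right (by norm_num) (by omega)
  have hconj : ∀ u v : ↥(Cfsg.Lie.twistedG2 K (3 ^ m)), orderOf u = 2 → orderOf v = 2 → IsConj u v := by
    intro u v hu hv
    obtain ⟨g, hg⟩ := Cfsg.Agent.CpAutRee.Ree.exists_conj hna hS hu hv
    exact isConj_iff.2 ⟨g, hg⟩
  obtain ⟨L, hL⟩ := LocalSetup.comp_of_iso (LocalSetup.good_of_mod hmod) hao e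
  obtain ⟨k, hk⟩ : ∃ k, k = Fintype.card K / 8 := ⟨_, rfl⟩
  have hkm : Fintype.card K = 8 * k + 3 := by
    rcases hmod with h | h <;> omega
  obtain ⟨s, ρ, S, Ls, V, Y, hloc⟩ := LocalSetup.exists_local (m := 2 * k + 1) (ε := -1) (Or.inr rfl)
    (by rw [hkm]; push_cast; ring) (odd_two_mul_add_one k)
    (PSLDihMain.pslDih (2 * k + 1) (-1) (Or.inr rfl) (odd_two_mul_add_one k) (by rw [hkm]; push_cast; ring))
    hconj (fun P => (hS P).1) (fun P => (hS P).2) hao hL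
  obtain ⟨hcS, hNS⟩ := Cfsg.Agent.S1157.result hm hK S
  exact po_of_rs S (rs_of_local hloc (by omega) (Nat.odd_iff.2 (by omega)) hcS.le hNS)

/-- **S2527, the row `²G₂(q)`.** -/
theorem po_ree {K : Type u} [Group K] [Finite K] [IsSimpleGroup K] (h : Cfsg.Lie.IsoRee K) :
    Cfsg.Agent.H408.Pron.PO K := by
  obtain ⟨F, i1, i2, m, hm, hF, ⟨e⟩⟩ := h
  exact Cfsg.Agent.H408.Pron.PO.congr e.symm (po_twisted hm hF)

end Cfsg.Agent.H196.Ron
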